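import Cfsg.Agent.RankThree.HigmanSimsGroup
import Cfsg.Agent.Leech.ConfigMain
import Cfsg.Agent.Leech.StabBottom
import Cfsg.Agent.Leech.StabConj
import Cfsg.Prelude.Def_Spor_Conway

/-!
The stabiliser of a pair of norm 48 vectors with product -32 acts on its hundred norm 32 vectors as the
group of even symmetries of the graph of Higman and Sims.
-/

set_option autoImplicit false

namespace CfsgLib.RankThree

open Cfsg CfsgLib.Leech

/-- The stabiliser of the base pair. -/
abbrev hsPair : Subgroup Co0 := MulAction.stabilizer Co0 bD ⊓ MulAction.stabilizer Co0 bW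

theorem hsPair_smul_mem (g : hsPair) {x : leechLattice} (hx : (x : GolayPt → ℤ) ∈ set100) :
    ((g.1 • x : leechLattice) : GolayPt → ℤ) ∈ set100 := by
  refine (hs_transport (g := 1) (v := bD) (w := bW) (one_smul Co0 bD) (one_smul Co0 bW) (g.1 • x)).1
    ⟨by rw [co0_norm]; exact hx.1.2.1, ?_, ?_⟩ |> fun h => by rwa [one_smul] at h
  · have e := co0_dot g.1 bD x
    rw [show g.1 • bD = bD from g.2.1] at e
    exact e.trans hx.1.2.2
  · have e := co0_dot g.1 bW x
    rw [show g.1 • bW = bW from g.2.2] at e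
    exact e.trans hx.2

/-- The hundred vectors as an invariant subset. -/
def hsPoints : SubMulAction hsPair leechLattice where
  carrier := {x | (x : GolayPt → ℤ) ∈ set100}
  smul_mem' g _ hx := hsPair_smul_mem g hx

theorem baseA_mem : baseA ∈ set100 :=
  ⟨⟨bA.2, base_facts.2.1.2, base_facts.2.2.2.2.2.1⟩, base_facts.2.2.2.2.2.2.2.2.2.2.1⟩

/-- The base point. -/
def ptA100 : hsPoints := ⟨bA, baseA_mem⟩

theorem hsPoints_pretransitive : MulAction.IsPretransitive hsPair hsPoints := by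
  have key : ∀ x : hsPoints, ∃ g : hsPair, g • x = ptA100 := fun x => by
    obtain ⟨g, hD, hW, hA⟩ := to100 x.2
    exact ⟨⟨g, hD, hW⟩, Subtype.ext hA⟩
  refine ⟨fun x y => ?_⟩
  obtain ⟨g, hg⟩ := key x
  obtain ⟨h, hh⟩ := key y
  exact ⟨h⁻¹ * g, by rw [mul_smul, hg, ← hh, inv_smul_smul]⟩

theorem hsPoints_finite : Finite hsPoints := by
  have := set100_finite.to_subtype
  exact Finite.of_injective (fun x : hsPoints => (⟨(x.1 : GolayPt → ℤ), x.2⟩ : ↥set100))
    fun a b e => Subtype.ext (Subtype.ext (congrArg (fun y : ↥set100 => y.1) e :))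

theorem card_hsPoints : Nat.card hsPoints = 100 := by
  rw [← ncard_set100, ← Nat.card_coe_set_eq]
  exact Nat.card_congr
    { toFun := fun x => ⟨(x.1 : GolayPt → ℤ), x.2⟩
      invFun := fun x => ⟨⟨x.1, x.2.1.1⟩, x.2⟩
      left_inv := fun _ => rfl
      right_inv := fun _ => rfl }

/-- The permutations fixing two coordinates, in the pair stabiliser. -/
def perm22Hom : perm22 →* hsPair :=
  (permHom.comp perm22.subtype).codRestrict hsPair fun τ =>
    ⟨(perm22_fix_base τ.2).1, (perm22_fix_base τ.2).2.2.1⟩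

theorem perm22Hom_injective : Function.Injective perm22Hom := fun _ _ e =>
  Subtype.ext (permHom_injective (congrArg Subtype.val e))

theorem range_perm22Hom : perm22Hom.range = MulAction.stabilizer hsPair ptA100 := by
  ext g
  constructor
  · rintro ⟨τ, rfl⟩
    exact Subtype.ext (perm22_fix_base τ.2).2.1
  · intro hg
    have hA : g.1 • bA = bA := congrArg Subtype.val (MulAction.mem_stabilizer_iff.1 hg)
    obtain ⟨τ, hτ, e⟩ := perm22_of_fix g.2.1
      (by rw [← bD_add_bW, co0_add, show g.1 • bD = bD from g.2.1, show g.1 • bW = bW from g.2.2]) hA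
    exact ⟨⟨τ, hτ⟩, Subtype.ext e.symm⟩

theorem card_hsPair : Nat.card hsPair = 44352000 := by
  have := hsPoints_pretransitive
  rw [← Subgroup.index_mul_card (MulAction.stabilizer hsPair ptA100),
    MulAction.index_stabilizer_of_transitive hsPair ptA100, card_hsPoints, ← range_perm22Hom,
    ← Nat.card_congr (MonoidHom.ofInjective perm22Hom_injective).toEquiv, card_perm22]

theorem hsPair_finite : Finite hsPair :=
  Nat.finite_of_card_ne_zero (by rw [card_hsPair]; norm_num)

theorem dot_smul_stab {g : hsPair} (hg : g ∈ MulAction.stabilizer hsPair ptA100) (x : leechLattice) :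
    dotInt baseA ((g.1 • x : leechLattice) : GolayPt → ℤ) = dotInt baseA (x : GolayPt → ℤ) := by
  have hA : g.1 • bA = bA := congrArg Subtype.val (MulAction.mem_stabilizer_iff.1 hg)
  have e := co0_dot g.1 bA x
  rwa [hA] at e

theorem orbit_ncard_eq {y : hsPoints} (P : ℤ → Prop)
    (hP : P (dotInt baseA (y.1 : GolayPt → ℤ)))
    (huniq : ∀ z : hsPoints, P (dotInt baseA (z.1 : GolayPt → ℤ)) → z ≠ ptA100 ∧
      (dotInt baseA (z.1 : GolayPt → ℤ) = 8 ↔ dotInt baseA (y.1 : GolayPt → ℤ) = 8)) :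
    (MulAction.orbit (MulAction.stabilizer hsPair ptA100) y).ncard =
      {x | x ∈ set100 ∧ P (dotInt baseA x)}.ncard := by
  have hne : ∀ z : hsPoints, z ≠ ptA100 → (z.1 : GolayPt → ℤ) ≠ baseA := fun z hz e =>
    hz (Subtype.ext (Subtype.ext e))
  have e : (fun z : hsPoints => (z.1 : GolayPt → ℤ)) ''
      MulAction.orbit (MulAction.stabilizer hsPair ptA100) y =
      {x | x ∈ set100 ∧ P (dotInt baseA x)} := by
    ext x
    constructor
    · rintro ⟨_, ⟨⟨g, hg⟩, rfl⟩, rfl⟩
      refine ⟨(g • y).2, ?_⟩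
      show P (dotInt baseA ((g.1 • y.1 : leechLattice) : GolayPt → ℤ))
      rw [dot_smul_stab hg]
      exact hP
    · rintro ⟨hx, hPx⟩
      let z : hsPoints := ⟨⟨x, hx.1.1⟩, hx⟩
      obtain ⟨hz, hiff⟩ := huniq z hPx
      obtain ⟨g, hD, hW, hA, he⟩ := within_hs (x := y.1) (y := z.1) y.2 hx
        (hne y (huniq y hP).1) (hne z hz) hiff.symm
      exact ⟨z, ⟨⟨⟨g, hD, hW⟩, Subtype.ext hA⟩, Subtype.ext he⟩, rfl⟩
  rw [← e, Set.ncard_image_of_injective]
  exact fun a b h => Subtype.ext (Subtype.ext h)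

theorem exists_suborbits : ∃ b c : hsPoints,
    (MulAction.orbit (MulAction.stabilizer hsPair ptA100) b).ncard = 22 ∧
      (MulAction.orbit (MulAction.stabilizer hsPair ptA100) c).ncard = 77 := by
  have hAA : dotInt baseA baseA = 32 := base_facts.2.1.2
  have hA : ∀ z : hsPoints, dotInt baseA (z.1 : GolayPt → ℤ) ≠ 32 → z ≠ ptA100 := fun z h e =>
    h (by rw [e]; exact hAA)
  obtain ⟨x, hx⟩ : {x | x ∈ set100 ∧ dotInt baseA x = 8}.Nonempty :=
    Set.nonempty_of_ncard_ne_zero (by rw [ncard_hs_8]; norm_num)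
  obtain ⟨x', hx'⟩ : {x | x ∈ set100 ∧ (dotInt baseA x ≠ 8 ∧ dotInt baseA x ≠ 32)}.Nonempty :=
    Set.nonempty_of_ncard_ne_zero (by rw [ncard_hs_other]; norm_num)
  refine ⟨⟨⟨x, hx.1.1.1⟩, hx.1⟩, ⟨⟨x', hx'.1.1.1⟩, hx'.1⟩, ?_, ?_⟩
  · rw [orbit_ncard_eq (fun t => t = 8) hx.2 fun z hz =>
      ⟨hA z (by rw [hz]; norm_num), iff_of_true hz hx.2⟩]
    exact ncard_hs_8
  · rw [orbit_ncard_eq (fun t => t ≠ 8 ∧ t ≠ 32) hx'.2 fun z hz =>
      ⟨hA z hz.2, iff_of_false hz.1 hx'.2.1⟩]
    exact ncard_hs_other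

theorem hsPoints_faithful : FaithfulSMul hsPair hsPoints := by
  refine ⟨fun {a b} h => ?_⟩
  suffices hk : ∀ g : hsPair, (∀ x : hsPoints, g • x = x) → g = 1 by
    have := hk (b⁻¹ * a) fun x => by rw [mul_smul, h, inv_smul_smul]
    exact (inv_mul_eq_one.1 this).symm
  intro g hg
  let K : Subgroup hsPair := (MulAction.toPermHom hsPair hsPoints).ker
  have hmem : ∀ k, k ∈ K ↔ ∀ x : hsPoints, k • x = x := fun k => by
    rw [MonoidHom.mem_ker]
    exact ⟨fun e x => DFunLike.congr_fun e x, fun e => Equiv.ext e⟩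
  have := simple_perm22
  rcases (MonoidHom.normal_ker (MulAction.toPermHom hsPair hsPoints)).comap perm22Hom |>
    Subgroup.Normal.eq_bot_or_eq_top with h | h
  · have hgs : g ∈ MulAction.stabilizer hsPair ptA100 := hg _
    rw [← range_perm22Hom] at hgs
    obtain ⟨τ, rfl⟩ := hgs
    have : τ ∈ K.comap perm22Hom := (hmem _).2 hg
    rw [h, Subgroup.mem_bot] at this
    rw [this, map_one]
  · exfalso
    obtain ⟨b, -, hb, -⟩ := exists_suborbits
    have hsub : MulAction.orbit (MulAction.stabilizer hsPair ptA100) b ⊆ {b} := by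
      rintro _ ⟨⟨k, hk⟩, rfl⟩
      rw [← range_perm22Hom] at hk
      obtain ⟨τ, rfl⟩ := hk
      have : τ ∈ K.comap perm22Hom := by rw [h]; exact Subgroup.mem_top τ
      exact (hmem _).1 this b
    have := Set.ncard_le_ncard hsub
    rw [hb, Set.ncard_singleton] at this
    omega

theorem nonempty_hsPair_equiv : Nonempty (hsPair ≃* Mathieu.HigmanSims.hs) := by
  have := hsPoints_pretransitive
  have := hsPoints_faithful
  have := hsPoints_finite
  have := hsPair_finite
  have := Fintype.ofFinite hsPoints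
  obtain ⟨b, c, hb, hc⟩ := exists_suborbits
  exact nonempty_mulEquiv_hs (by rw [← Nat.card_eq_fintype_card]; exact card_hsPoints) card_hsPair
    ptA100 b c hb hc

theorem nonempty_hsPair_of {v w : leechLattice} (hv : sqNorm (v : GolayPt → ℤ) = 48)
    (hw : sqNorm (w : GolayPt → ℤ) = 48) (hd : dotInt (v : GolayPt → ℤ) (w : GolayPt → ℤ) = -32) :
    Nonempty (↥(MulAction.stabilizer Co0 v ⊓ MulAction.stabilizer Co0 w) ≃*
      Mathieu.HigmanSims.hs) := by
  obtain ⟨g, gv, gw⟩ := canonHS v w hv hw hd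
  exact ⟨(stabEquiv₂ gv gw).trans nonempty_hsPair_equiv.some⟩

/-- The companion of the two vectors defining `Cfsg.Spor.HS`. -/
def vecW' : GolayPt → ℤ := fun p => -(Spor.vecV p + Spor.vecU' p)

theorem nonempty_SporHS_equiv : Nonempty (Spor.HS ≃* Mathieu.HigmanSims.hs) := by
  let W : leechLattice := -(Spor.leechV + Spor.leechU')
  have hW : (W : GolayPt → ℤ) = vecW' := rfl
  have f1 : sqNorm Spor.vecV = 48 ∧ sqNorm vecW' = 48 ∧ dotInt Spor.vecV vecW' = -32 := by
    decide +kernel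
  obtain ⟨e⟩ := nonempty_hsPair_of (v := Spor.leechV) (w := W) f1.1 (by rw [hW]; exact f1.2.1)
    (by rw [hW]; exact f1.2.2)
  have hiff : ∀ g : Co0, g • W = W ∧ g • Spor.leechV = Spor.leechV ↔
      g • Spor.leechU' = Spor.leechU' ∧ g • Spor.leechV = Spor.leechV := fun g => by
    have hneg : ∀ x, g • (-x : leechLattice) = -(g • x) := (co0Hom g).map_neg
    refine and_congr_left fun hV => ?_
    show g • -(Spor.leechV + Spor.leechU') = -(Spor.leechV + Spor.leechU') ↔ _
    rw [hneg, co0_add, hV, neg_inj, add_right_inj]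
  let ψ : Spor.HS ≃* ↥(MulAction.stabilizer Co0 Spor.leechV ⊓ MulAction.stabilizer Co0 W) :=
    { toFun := fun g => ⟨⟨g.1, g.2.1.1⟩, g.2.1.2, ((hiff ⟨g.1, g.2.1.1⟩).2 ⟨g.2.2, g.2.1.2⟩).1⟩
      invFun := fun g => ⟨g.1.1, ⟨g.1.2, g.2.1⟩, ((hiff g.1).1 ⟨g.2.2, g.2.1⟩).1⟩
      left_inv := fun _ => rfl
      right_inv := fun _ => rfl
      map_mul' := fun _ _ => rfl }
  exact ⟨ψ.trans e⟩

end CfsgLib.RankThree
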