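import Mathlib.Algebra.BigOperators.Group.List.Basic
import Mathlib.Tactic.Ring
import Mathlib.Tactic.Linarith
import Mathlib.Tactic.LinearCombination

/-!
# A scalar product as the middle digit of one product

If `A` packs a sequence and `B` the reversed other sequence in base `X`, and no convolution sum reaches
`X - 1`, then the middle digit of `A * B` is the scalar product.
-/

set_option autoImplicit false

namespace CfsgLib.McLRec

/-- Packing in base `X`. -/
def ofDigs (X : ℕ) : List ℕ → ℕ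
  | [] => 0
  | a :: l => a + X * ofDigs X l

/-- The scalar product. -/
def dotList : List ℕ → List ℕ → ℕ
  | a :: l, b :: m => a * b + dotList l m
  | _, _ => 0

theorem ofDigs_append (X : ℕ) : ∀ l m : List ℕ, ofDigs X (l ++ m) = ofDigs X l + X ^ l.length * ofDigs X m
  | [], m => by simp [ofDigs]
  | a :: l, m => by
    simp only [List.cons_append, ofDigs, ofDigs_append X l m, List.length_cons, pow_succ]
    ring

theorem ofDigs_bound {X c : ℕ} (hX : 1 ≤ X) : ∀ l : List ℕ, (∀ a ∈ l, a ≤ c) →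
    (X - 1) * ofDigs X l + c ≤ c * X ^ l.length
  | [], _ => by simp [ofDigs]
  | a :: l, h => by
    have ih := ofDigs_bound hX l fun b hb => h b (List.mem_cons_of_mem _ hb)
    have ha := h a List.mem_cons_self
    obtain ⟨Y, rfl⟩ : ∃ Y, X = Y + 1 := ⟨X - 1, by omega⟩
    simp only [Nat.add_sub_cancel] at ih ⊢
    simp only [ofDigs, List.length_cons, pow_succ]
    nlinarith

theorem dotList_le {c : ℕ} : ∀ l m : List ℕ, (∀ a ∈ l, a ≤ c) → (∀ a ∈ m, a ≤ c) →
    dotList l m ≤ l.length * (c * c)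
  | [], _, _, _ => by simp [dotList]
  | _ :: _, [], _, _ => by simp [dotList]
  | a :: l, b :: m, hl, hm => by
    have := dotList_le l m (fun x hx => hl x (List.mem_cons_of_mem _ hx))
      fun x hx => hm x (List.mem_cons_of_mem _ hx)
    have := Nat.mul_le_mul (hl a List.mem_cons_self) (hm b List.mem_cons_self)
    simp only [dotList, List.length_cons]
    nlinarith

theorem mid_digit {X c : ℕ} (hX : 1 ≤ X) : ∀ (n : ℕ) (l m : List ℕ), l.length = n + 1 → m.length = n + 1 →
    (∀ a ∈ l, a ≤ c) → (∀ a ∈ m, a ≤ c) → ∃ low high,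
      ofDigs X l * ofDigs X m.reverse = low + X ^ n * (dotList l m + X * high) ∧
        (X - 1) * low + n * (c * c) ≤ n * (c * c) * X ^ n
  | 0, [a], [b], _, _, _, _ => ⟨0, 0, by simp [ofDigs, dotList], by simp⟩
  | n + 1, a :: l, b :: m, hl, hm, hla, hma => by
    obtain ⟨low, high, e, hlow⟩ := mid_digit hX n l m (by simpa using hl) (by simpa using hm)
      (fun x hx => hla x (List.mem_cons_of_mem _ hx)) fun x hx => hma x (List.mem_cons_of_mem _ hx)
    have hlen : m.reverse.length = n + 1 := by simpa using hm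
    have hb := ofDigs_bound (c := c) hX m.reverse fun x hx => hma x (by simp at hx; simp [hx])
    rw [hlen] at hb
    refine ⟨a * ofDigs X m.reverse + X * low, high + ofDigs X l * b, ?_, ?_⟩
    · rw [List.reverse_cons, ofDigs_append, hlen]
      simp only [ofDigs, dotList, mul_zero, add_zero, pow_succ]
      linear_combination X * e
    · obtain ⟨Y, rfl⟩ : ∃ Y, X = Y + 1 := ⟨X - 1, by omega⟩
      simp only [Nat.add_sub_cancel] at hb hlow ⊢
      have ha := hla a List.mem_cons_self
      have h1 := Nat.mul_le_mul_left a hb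
      have h2 := Nat.mul_le_mul_left (Y + 1) hlow
      have h4 : 1 ≤ (Y + 1) ^ (n + 1) := Nat.one_le_pow _ _ (by omega)
      have h3 : n * (c * c) * (Y + 1) ^ n * (Y + 1) = n * (c * c) * (Y + 1) ^ (n + 1) := by rw [pow_succ]; ring
      have hac : a * (c * (Y + 1) ^ (n + 1)) + c * c ≤ c * (c * (Y + 1) ^ (n + 1)) + a * c := by
        have := Nat.mul_le_mul_right (c * ((Y + 1) ^ (n + 1) - 1)) ha
        obtain ⟨p, hp⟩ : ∃ p, (Y + 1) ^ (n + 1) = p + 1 := ⟨(Y + 1) ^ (n + 1) - 1, by omega⟩
        rw [hp] at this ⊢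
        simp only [Nat.add_sub_cancel] at this
        linear_combination this
      nlinarith [Nat.zero_le (Y * (n * (c * c)))]

/-- The scalar product read off a product. -/
theorem dotList_eq_mid {w c n : ℕ} {l m : List ℕ} (hl : l.length = n + 1) (hm : m.length = n + 1)
    (hla : ∀ a ∈ l, a ≤ c) (hma : ∀ a ∈ m, a ≤ c) (hc : (n + 1) * (c * c) < 2 ^ w) :
    ((ofDigs (2 ^ w) l * ofDigs (2 ^ w) m.reverse) >>> (w * n)) % 2 ^ w = dotList l m := by
  have hX : 1 ≤ 2 ^ w := Nat.one_le_two_pow
  obtain ⟨low, high, e, hlow⟩ := mid_digit hX n l m hl hm hla hma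
  have hdot := dotList_le l m hla hma
  rw [hl] at hdot
  have hpos : 0 < (2 ^ w) ^ n := Nat.pow_pos (by omega)
  rcases Nat.eq_zero_or_pos w with rfl | hw
  · rw [pow_zero] at hc
    have : dotList l m = 0 := by omega
    rw [this, pow_zero, Nat.mod_one]
  have hlt : low < (2 ^ w) ^ n := by
    obtain ⟨Y, hY⟩ : ∃ Y, 2 ^ w = Y + 1 := ⟨2 ^ w - 1, by omega⟩
    have hY1 : 1 ≤ Y := by
      have : 2 ^ 1 ≤ 2 ^ w := Nat.pow_le_pow_right (by norm_num) hw
      omega
    rw [hY] at hc hlow hpos ⊢
    simp only [Nat.add_sub_cancel] at hlow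
    by_contra hge
    rw [not_lt] at hge
    have h1 := Nat.mul_le_mul_left Y hge
    have h2 : n * (c * c) ≤ Y := by rw [Nat.succ_mul] at hc; omega
    have h3 := Nat.mul_le_mul_right ((Y + 1) ^ n) h2
    have h4 : n * (c * c) = 0 := by omega
    rw [h4] at hlow
    simp only [Nat.zero_mul, Nat.add_zero, Nat.le_zero, Nat.mul_eq_zero] at hlow
    omega
  rw [Nat.shiftRight_eq_div_pow, pow_mul, e, Nat.add_mul_div_left _ _ hpos, Nat.div_eq_of_lt hlt, zero_add,
    Nat.add_mul_mod_self_left, Nat.mod_eq_of_lt (lt_of_le_of_lt hdot hc)]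

end CfsgLib.McLRec
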