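import Cfsg.Agent.RankThree.McLGraphOrder
import Cfsg.Agent.RankThree.PackedDot
import Cfsg.Agent.GraphPerm.LeechModel
import Cfsg.Agent.Leech.ConfigMain
import Cfsg.Agent.Leech.StabChain

/-!
# The McLaughlin group in the symmetries of its graph

Adjacency is read off the scalar products of the numbered lattice vectors, so the lattice group preserves it.
-/

set_option autoImplicit false
set_option maxRecDepth 100000

namespace CfsgLib.McLRec

open Cfsg CfsgLib.Mathieu CfsgLib.Leech CfsgLib.Leech.TreeData CfsgLib.GraphPerm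
open CfsgLib.GraphPerm.McLModel (codes)
open Equiv (Perm)

/-- The stabiliser of the pair, without a name. -/
abbrev pairStab : Subgroup Co0 := MulAction.stabilizer Co0 bD ⊓ MulAction.stabilizer Co0 bA

theorem pairStab_vecs : baseD = -Spor.vecV ∧ baseA = Spor.vecU := by decide +kernel

theorem isPairStab_McL : IsPairStab Spor.McL bD bA := by
  refine ⟨fun g => ?_⟩
  have eD : bD = -Spor.leechV := Subtype.ext pairStab_vecs.1
  have eA : bA = Spor.leechU := Subtype.ext pairStab_vecs.2
  constructor
  · rintro ⟨⟨hg, hv⟩, hu⟩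
    have hv' : (⟨g, hg⟩ : Co0) • Spor.leechV = Spor.leechV := hv
    refine ⟨hg, ?_, ?_⟩
    · show (⟨g, hg⟩ : Co0) • bD = bD
      rw [eD, co0_neg, hv']
    · rw [eA]; exact hu
  · rintro ⟨hg, h1, h2⟩
    have h1' : (⟨g, hg⟩ : Co0) • bD = bD := h1
    rw [eD, co0_neg, neg_inj] at h1'
    rw [eA] at h2
    exact ⟨⟨hg, h1'⟩, h2⟩

theorem ncard_orbit_eq {G : Subgroup Co0} {x : leechLattice} {S : Set (GolayPt → ℤ)}
    (hS : ∀ y ∈ S, y ∈ leechLattice)
    (hmem : ∀ g ∈ G, ((g • x : leechLattice) : GolayPt → ℤ) ∈ S)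
    (htrans : ∀ y : leechLattice, (y : GolayPt → ℤ) ∈ S → ∃ g ∈ G, g • y = x) :
    (orb G x).ncard = S.ncard := by
  refine Eq.trans ?_ (ncard_val (fun z => z ∈ S) hS)
  congr 1
  ext y
  constructor
  · rintro ⟨g, hg, rfl⟩; exact hmem g hg
  · intro hy
    obtain ⟨g, hg, e⟩ := htrans y hy
    exact ⟨g⁻¹, inv_mem hg, by rw [← e, inv_smul_smul]⟩

theorem card_pairStab : Nat.card pairStab = 898128000 := by
  show Nat.card ↥(MulAction.stabilizer Co0 bD ⊓ MulAction.stabilizer Co0 bA) = 898128000
  have h := card_eq_orb_mul (MulAction.stabilizer Co0 bD) bA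
  rw [card_stab_norm48 base_facts.1.2, ncard_orbit_eq (S := dotSet baseD 24) (fun y hy => hy.1)
    (fun g hg => ⟨(g • bA).2, by rw [co0_norm]; exact base_facts.2.1.2,
      (smul_dot_eq (show g • bD = bD from hg) bA).trans base_facts.2.2.2.2.2.1⟩)
    (fun y hy => to552 hy), ncard_dotSet_D] at h
  omega

/-- The embedding in the group of permutations of the lattice. -/
def toMcL : pairStab →* Spor.McL where
  toFun g := ⟨g.1.1, (isPairStab_McL.mem_iff g.1.1).2 ⟨g.1.2, g.2.1, g.2.2⟩⟩
  map_one' := rfl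
  map_mul' _ _ := rfl

theorem toMcL_bijective : Function.Bijective toMcL := by
  refine ⟨fun g h e => Subtype.ext (Subtype.ext (congrArg (fun z : Spor.McL => z.1) e)), fun h => ?_⟩
  obtain ⟨hg, h1, h2⟩ := (isPairStab_McL.mem_iff h.1).1 h.2
  exact ⟨⟨⟨h.1, hg⟩, ⟨h1, h2⟩⟩, rfl⟩

theorem card_McL : Nat.card Spor.McL = 898128000 :=
  (Nat.card_congr (Equiv.ofBijective _ toMcL_bijective)).symm.trans card_pairStab

/-! ### What fixes the 275 points -/

/-- Four at the extra point and four at `p`. -/
def fourPair (p : GolayPt) : GolayPt → ℤ := fun r => (if r = none then 4 else 0) + if r = p then 4 else 0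

theorem fourPair_facts : ∀ p, leechB (fourPair p) = true ∧
    (p = none ∨ fourPair p = baseA ∨
      (sqNorm (fourPair p) = 32 ∧ dotInt baseD (fourPair p) = 24 ∧ dotInt baseA (fourPair p) = 16)) := by
  decide +kernel

theorem fourPair_sum : (∀ r, ∑ p ∈ Finset.univ.erase none, fourPair p r = 4 * baseD r + 9 * eight none r) ∧
    ∀ p r, 2 * fourPair p r = eight none r + eight p r := by
  decide +kernel

/-- What fixes all 275 points and the pair is trivial. -/
theorem eq_one_of_fixes {n : Co0} (hD : n • bD = bD) (hA : n • bA = bA)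
    (h : ∀ x : leechLattice, (x : GolayPt → ℤ) ∈ set275 → n • x = x) : n = 1 := by
  set v : GolayPt → leechLattice := fun p => ⟨fourPair p, leechB_iff.mp (fourPair_facts p).1⟩ with hv
  have hfix : ∀ p ∈ Finset.univ.erase (none : GolayPt), n • v p = v p := by
    intro p hp
    rcases (fourPair_facts p).2 with e | e | ⟨e1, e2, e3⟩
    · exact absurd e (Finset.ne_of_mem_erase hp)
    · rw [show v p = bA from Subtype.ext e]; exact hA
    · exact h (v p) ⟨⟨(v p).2, e1, e2⟩, e3⟩
  have hsum : n • (∑ p ∈ Finset.univ.erase none, v p) = ∑ p ∈ Finset.univ.erase none, v p := by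
    change co0Hom n _ = _
    rw [map_sum]
    exact Finset.sum_congr rfl hfix
  have heq : ∑ p ∈ Finset.univ.erase none, v p = (4 : ℤ) • bD + (9 : ℤ) • eightL none := by
    apply Subtype.ext
    funext r
    rw [AddSubmonoidClass.coe_finsetSum, Finset.sum_apply]
    exact fourPair_sum.1 r
  rw [heq, co0_add, co0_zsmul, co0_zsmul, hD] at hsum
  have hinf : n • eightL none = eightL none := by
    refine Subtype.ext (funext fun r => ?_)
    have h1 := congrFun (congrArg Subtype.val (add_left_cancel hsum)) r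
    exact mul_left_cancel₀ (by norm_num : (9 : ℤ) ≠ 0) h1
  refine co0_eq_of_eight fun p => ?_
  rw [one_smul]
  by_cases hp : p = none
  · rw [hp]; exact hinf
  have he : eightL p = (2 : ℤ) • v p - eightL none := by
    refine Subtype.ext (funext fun r => ?_)
    show eight p r = 2 * fourPair p r - eight none r
    rw [fourPair_sum.2 p r]; ring
  rw [he, co0_sub, co0_zsmul, hfix p (Finset.mem_erase.2 ⟨hp, Finset.mem_univ p⟩), hinf]

/-! ### Adjacency from scalar products -/

/-- The coordinates of a numbered vector, shifted by four. -/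
def yList (i : ℕ) : List ℕ := (List.range 24).map fun r => (codes.getD i 0 >>> (5 * r)) % 32 - 12

/-- The packed coordinates. -/
def fwdDot (i : ℕ) : ℕ := (Data.dotFwd >>> (264 * i)) % 2 ^ 264

/-- The packed coordinates, reversed. -/
def revDot (i : ℕ) : ℕ := (Data.dotRev >>> (264 * i)) % 2 ^ 264

/-- The sum of the shifted coordinates. -/
def sumDot (i : ℕ) : ℕ := tget Data.dotSum i

/-- The scalar product of the shifted vectors. -/
def dotY (i j : ℕ) : ℕ := ((fwdDot i * revDot j) >>> (11 * 23)) % 2 ^ 11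

theorem coords_ok : forBelow 275 (fun i =>
    ((List.range 24).all fun r => decide (12 ≤ (codes.getD i 0 >>> (5 * r)) % 32) &&
      decide ((codes.getD i 0 >>> (5 * r)) % 32 ≤ 20)) &&
    fwdDot i == ofDigs (2 ^ 11) (yList i) && revDot i == ofDigs (2 ^ 11) (yList i).reverse &&
    sumDot i == (yList i).sum) = true := by
  decide +kernel

theorem dots_ok : forBelow 275 (fun i => forBelow (i + 1) fun j =>
    (adjT 275 McLModel.graph i j == (dotY i j + 384 == 8 + 4 * (sumDot i + sumDot j))) &&
      (adjT 275 McLModel.graph j i == (dotY i j + 384 == 8 + 4 * (sumDot i + sumDot j)))) = true := by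
  decide +kernel

theorem codesOK_model : codesOK 275 mclGens mclRoot mclLvls codes = true := by decide +kernel

theorem dotL_map (f g : ℕ → ℤ) (F G : ℕ → ℕ) : ∀ L : List ℕ,
    (∀ x ∈ L, f x = (F x : ℤ) - 4 ∧ g x = (G x : ℤ) - 4) →
      dotL (L.map f) (L.map g) =
        (dotList (L.map F) (L.map G) : ℤ) - 4 * ((L.map F).sum : ℤ) - 4 * ((L.map G).sum : ℤ) + 16 * (L.length : ℤ)
  | [], _ => by simp [dotL, dotList]
  | x :: L, h => by
    obtain ⟨h1, h2⟩ := h x List.mem_cons_self
    simp only [List.map_cons, dotL, dotList, List.sum_cons, List.length_cons,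
      dotL_map f g F G L fun y hy => h y (List.mem_cons_of_mem _ hy), h1, h2]
    push_cast
    ring

/-- Adjacency is scalar product 8. -/
theorem adjT_eq_dot {i j : ℕ} (hi : i < 275) (hj : j < 275) :
    adjT 275 McLModel.graph i j = decide (dotInt (codeVec codes i) (codeVec codes j) = 8) := by
  have hc := fun r (hr : r < 275) => forBelow_iff.1 coords_ok r hr
  simp only [Bool.and_eq_true, List.all_eq_true, decide_eq_true_eq, beq_iff_eq, List.mem_range] at hc
  have hle : ∀ r (hr : r < 275), ∀ a ∈ yList r, a ≤ 8 := by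
    intro r hr a ha
    simp only [yList, List.mem_map, List.mem_range] at ha
    obtain ⟨s, hs, rfl⟩ := ha
    have := ((hc r hr).1.1.1 s hs).2
    omega
  have hlen : ∀ r, (yList r).length = 23 + 1 := fun r => by simp [yList]
  have hY : ∀ r s (_ : r < 275) (_ : s < 275), dotY r s = dotList (yList r) (yList s) := by
    intro r s hr hs
    rw [dotY, (hc r hr).1.1.2, (hc s hs).1.2, dotList_eq_mid (hlen r) (hlen s) (hle r hr) (hle s hs) (by norm_num)]
  have hdot : ∀ r s (hr : r < 275) (hs : s < 275), dotInt (codeVec codes r) (codeVec codes s) =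
      (dotY r s : ℤ) - 4 * (sumDot r : ℤ) - 4 * (sumDot s : ℤ) + 384 := by
    intro r s hr hs
    have e : dotInt (codeVec codes r) (codeVec codes s) =
        dotL (dec (codes.getD r 0)) (dec (codes.getD s 0)) := by
      rw [codeVec, codeVec, ← dotP_eq _ (dec_length _) (codes.getD s 0), dotP_def]
    rw [e, dec, dec, dotL_map _ _ (fun x => (codes.getD r 0 >>> (5 * x)) % 32 - 12)
      (fun x => (codes.getD s 0 >>> (5 * x)) % 32 - 12) _ fun x hx => ?_, List.length_range, hY r s hr hs,
      (hc r hr).2, (hc s hs).2]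
    · simp only [yList]
      push_cast
      ring
    · have h1 := ((hc r hr).1.1.1 x (List.mem_range.1 hx)).1
      have h2 := ((hc s hs).1.1.1 x (List.mem_range.1 hx)).1
      simp only [pcoord]
      omega
  have hkey : ∀ r s, r < 275 → s < 275 →
      ((dotY r s + 384 == 8 + 4 * (sumDot r + sumDot s)) =
        decide (dotInt (codeVec codes r) (codeVec codes s) = 8)) := by
    intro r s hr hs
    rw [Bool.eq_iff_iff, beq_iff_eq, decide_eq_true_eq, hdot r s hr hs]
    omega
  rcases Nat.lt_or_ge i j with h | h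
  · have hh := forBelow_iff.1 (forBelow_iff.1 dots_ok j hj) i (by omega)
    simp only [Bool.and_eq_true, beq_iff_eq] at hh
    rw [hh.2, hkey j i hj hi]
    congr 1
    rw [dotInt, dotInt]
    simp only [mul_comm]
  · have hh := forBelow_iff.1 (forBelow_iff.1 dots_ok i hi) j (by omega)
    simp only [Bool.and_eq_true, beq_iff_eq] at hh
    rw [hh.1, hkey i j hi hj]

/-- The lattice model with its numbering. -/
theorem exists_model_codes : ∃ ρ : Spor.McL →* Perm (Fin 275), Function.Injective ρ ∧ ρ.range ≤ autM ∧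
    Nat.card ρ.range = 898128000 ∧
    ∀ (h : Spor.McL) (i : Fin 275) (v : leechLattice), (v : GolayPt → ℤ) = codeVec codes i.val →
      ((h.1 v : leechLattice) : GolayPt → ℤ) = codeVec codes (ρ h i).val := by
  classical
  obtain ⟨ρ, hρ⟩ := exists_model (n := 275) isPairStab_McL set275_finite ncard_set275.le sub275
    (fun g h1 h2 v hv => ⟨⟨(g • v).2, by rw [co0_norm]; exact hv.1.2.1,
      (smul_dot_eq h1 v).trans hv.1.2.2⟩, (smul_dot_eq h2 v).trans hv.2⟩) mcl_tree codesOK_model
  have hgood := (codes_good mcl_tree codesOK_model).2.2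
  let v : Fin 275 → leechLattice := fun i => ⟨codeVec codes i.val, (hgood i i.isLt).2.2.mem_right⟩
  have hS : ∀ x : leechLattice, (x : GolayPt → ℤ) ∈ set275 → ∃ i, x = v i := by
    have e : set275 = Set.range fun i : Fin 275 => codeVec codes i.val := by
      symm
      refine Set.eq_of_subset_of_ncard_le ?_ ?_ set275_finite
      · rintro _ ⟨i, rfl⟩; exact sub275 _ (hgood i i.isLt).2.2
      · rw [Set.ncard_range_of_injective (fun i j e => Fin.ext (codeVec_inj mcl_tree codesOK_model i.2 j.2 e)),
          Nat.card_fin, ncard_set275]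
    intro x hx
    rw [e] at hx
    obtain ⟨i, hi⟩ := hx
    exact ⟨i, Subtype.ext hi.symm⟩
  have hinj : Function.Injective ρ := by
    rw [← MonoidHom.ker_eq_bot_iff, Subgroup.eq_bot_iff_forall]
    intro h hh
    obtain ⟨hg, h1, h2⟩ := (isPairStab_McL.mem_iff h.1).1 h.2
    have hone : (⟨h.1, hg⟩ : Co0) = 1 := eq_one_of_fixes h1 h2 fun x hx => by
      obtain ⟨i, rfl⟩ := hS x hx
      refine Subtype.ext ?_
      have := hρ h i (v i) rfl
      rw [MonoidHom.mem_ker.1 hh] at this
      exact this
    exact Subtype.ext (congrArg (fun z : Co0 => z.1) hone)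
  refine ⟨ρ, hinj, ?_, ?_, hρ⟩
  · rintro _ ⟨h, rfl⟩ i j
    rw [adjT_eq_dot (ρ h i).2 (ρ h j).2, adjT_eq_dot i.2 j.2]
    obtain ⟨hg, -, -⟩ := (isPairStab_McL.mem_iff h.1).1 h.2
    rw [← hρ h i (v i) rfl, ← hρ h j (v j) rfl]
    exact congrArg (fun n : ℤ => decide (n = 8)) (co0_dot ⟨h.1, hg⟩ (v i) (v j))
  · rw [← Nat.card_congr (MonoidHom.ofInjective hinj).toEquiv, card_McL]

end CfsgLib.McLRec
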