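import Cfsg.Agent.Mathieu.HigmanSims
import Cfsg.Agent.Mathieu.GraphUnique

/-!
A rank 3 permutation group of degree 100, order 44352000 and subdegrees 1, 22, 77 is the group of even
symmetries of the graph of Higman and Sims.
-/

set_option autoImplicit false

namespace CfsgLib.RankThree

open CfsgLib.Mathieu CfsgLib.Mathieu.HigmanSims
open Equiv (Perm)

/-- The numbered graph. -/
def stdGraph : SimpleGraph (Fin 100) where
  Adj u v := adjB u v = true
  symm := ⟨fun u v h => by rwa [adjB_symm] at h⟩
  loopless := ⟨fun u h => by simp [adjB_self] at h⟩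

instance instDecidableRelStdGraphAdj : DecidableRel stdGraph.Adj :=
  fun u v => inferInstanceAs (Decidable (adjB u v = true))

theorem adjB_counts_zero : ∀ v : Fin 100,
    ((List.finRange 100).countP fun w => adjB 0 w && adjB v w) =
      if 0 = v then 22 else if adjB 0 v then 0 else 6 := by
  decide +kernel

theorem card_common_std (u v : Fin 100) :
    Fintype.card (stdGraph.commonNeighbors u v) =
      (List.finRange 100).countP fun w => adjB u w && adjB v w := by
  rw [List.countP_eq_length_filter, ← List.toFinset_card_of_nodup ((List.nodup_finRange 100).filter _)]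
  refine Fintype.card_of_subtype _ fun w => ?_
  simp [SimpleGraph.commonNeighbors, stdGraph, List.mem_filter]

/-- The counts of common neighbours, from those at the first vertex by transitivity. -/
theorem adjB_counts (u v : Fin 100) :
    ((List.finRange 100).countP fun w => adjB u w && adjB v w) =
      if u = v then 22 else if adjB u v then 0 else 6 := by
  haveI := hs_isPretransitive
  obtain ⟨⟨σ, hσ⟩, h⟩ := MulAction.exists_smul_eq hs (0 : Fin 100) u
  change σ 0 = u at h
  obtain ⟨v', rfl⟩ := σ.surjective v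
  subst h
  have hadj : ∀ x y, adjB (σ x) (σ y) = adjB x y := hσ.1
  rw [← card_common_std, show Fintype.card (stdGraph.commonNeighbors (σ 0) (σ v')) =
      Fintype.card (stdGraph.commonNeighbors 0 v') from
    Fintype.card_congr ((Equiv.subtypeEquiv σ fun z => by
      simp [SimpleGraph.commonNeighbors, stdGraph, hadj]).symm),
    card_common_std, adjB_counts_zero, hadj]
  simp only [σ.injective.eq_iff]

theorem stdGraph_srg : stdGraph.IsSRGWith 100 22 0 6 := by
  refine ⟨Fintype.card_fin 100, fun u => ?_, fun u v h => ?_, fun u v hne h => ?_⟩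
  · rw [← SimpleGraph.card_neighborSet_eq_degree]
    refine Eq.trans ?_ ((adjB_counts u u).trans (if_pos rfl))
    rw [← card_common_std]
    exact Fintype.card_congr (Equiv.subtypeEquivRight fun w => by
      simp [SimpleGraph.commonNeighbors, SimpleGraph.mem_neighborSet])
  · rw [card_common_std, adjB_counts, if_neg h.ne, if_pos (show adjB u v = true from h)]
  · rw [card_common_std, adjB_counts, if_neg hne, if_neg (show ¬ adjB u v = true from h)]

section orbital

variable {G Ω : Type*} [Group G] [MulAction G Ω] (a b : Ω)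

/-- The pair is an image of the base pair. -/
def Rel (x y : Ω) : Prop := ∃ g : G, g • a = x ∧ g • b = y

variable {a b}

theorem rel_smul {x y : Ω} (g : G) (h : Rel (G := G) a b x y) : Rel (G := G) a b (g • x) (g • y) := by
  obtain ⟨k, rfl, rfl⟩ := h
  exact ⟨g * k, mul_smul g k a, mul_smul g k b⟩

theorem rel_iff {g : G} {x y : Ω} (hg : g • a = x) :
    Rel (G := G) a b x y ↔ g⁻¹ • y ∈ MulAction.orbit (MulAction.stabilizer G a) b := by
  constructor
  · rintro ⟨k, hk, rfl⟩
    refine ⟨⟨g⁻¹ * k, ?_⟩, mul_smul g⁻¹ k b⟩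
    rw [MulAction.mem_stabilizer_iff, mul_smul, hk, ← hg, inv_smul_smul]
  · rintro ⟨⟨h, hh⟩, e⟩
    rw [MulAction.mem_stabilizer_iff] at hh
    exact ⟨g * h, by rw [mul_smul, hh, hg], by
      rw [mul_smul, show h • b = g⁻¹ • y from e, smul_inv_smul]⟩

theorem ncard_suborbit_reverse [Finite G] [Finite Ω] {g : G} (hg : g • b = a) :
    (MulAction.orbit (MulAction.stabilizer G a) (g • a)).ncard =
      (MulAction.orbit (MulAction.stabilizer G b) a).ncard := by
  have e : MulAction.orbit (MulAction.stabilizer G a) (g • a) =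
      (g • ·) '' MulAction.orbit (MulAction.stabilizer G b) a := by
    ext z
    constructor
    · rintro ⟨⟨h, hh⟩, rfl⟩
      rw [MulAction.mem_stabilizer_iff] at hh
      refine ⟨(g⁻¹ * h * g) • a, ⟨⟨g⁻¹ * h * g, ?_⟩, rfl⟩, ?_⟩
      · rw [MulAction.mem_stabilizer_iff, mul_smul, mul_smul, hg, hh, ← hg, inv_smul_smul]
      · show g • (g⁻¹ * h * g) • a = h • g • a
        rw [mul_smul, mul_smul, smul_inv_smul]
    · rintro ⟨_, ⟨⟨h, hh⟩, rfl⟩, rfl⟩
      rw [MulAction.mem_stabilizer_iff] at hh
      refine ⟨⟨g * h * g⁻¹, ?_⟩, ?_⟩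
      · rw [MulAction.mem_stabilizer_iff, mul_smul, mul_smul, ← hg, inv_smul_smul, hh]
      · show (g * h * g⁻¹) • g • a = g • h • a
        rw [mul_smul, mul_smul, inv_smul_smul]
  rw [e, Set.ncard_image_of_injective _ (MulAction.injective g)]

theorem card_orbit_pair [Finite G] [Finite Ω] [MulAction.IsPretransitive G Ω] (x y : Ω) :
    (MulAction.orbit (MulAction.stabilizer G x) y).ncard =
      (MulAction.orbit (MulAction.stabilizer G y) x).ncard := by
  have hst : ∀ z : Ω, Nat.card Ω * Nat.card (MulAction.stabilizer G z) = Nat.card G := fun z => by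
    rw [← Subgroup.index_mul_card (MulAction.stabilizer G z),
      MulAction.index_stabilizer_of_transitive G z]
  have hxy : ∀ u v : Ω, (MulAction.orbit (MulAction.stabilizer G u) v).ncard *
      Nat.card (MulAction.stabilizer (MulAction.stabilizer G u) v) =
        Nat.card (MulAction.stabilizer G u) := fun u v => by
    rw [← MulAction.index_stabilizer, Subgroup.index_mul_card]
  have he : Nat.card (MulAction.stabilizer (MulAction.stabilizer G x) y) =
      Nat.card (MulAction.stabilizer (MulAction.stabilizer G y) x) :=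
    Nat.card_congr
      { toFun := fun g => ⟨⟨g.1.1, g.2⟩, g.1.2⟩
        invFun := fun g => ⟨⟨g.1.1, g.2⟩, g.1.2⟩
        left_inv := fun _ => rfl
        right_inv := fun _ => rfl }
  have hs : Nat.card (MulAction.stabilizer G x) = Nat.card (MulAction.stabilizer G y) := by
    have : Nonempty Ω := ⟨x⟩
    exact Nat.eq_of_mul_eq_mul_left Nat.card_pos ((hst x).trans (hst y).symm)
  have h := (hxy x y).trans (hs.trans (hxy y x).symm)
  rw [he] at h
  exact Nat.eq_of_mul_eq_mul_right Nat.card_pos h

end orbital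

/-- A finite set with a fixed point free map of order dividing three. -/
theorem three_dvd_card {α : Type*} [Fintype α] [DecidableEq α] (σ : Perm α) (h3 : σ ^ 3 = 1)
    (hfree : ∀ x, σ x ≠ x) : 3 ∣ Fintype.card α := by
  haveI : Fact (Nat.Prime 3) := ⟨by norm_num⟩
  have h := Equiv.Perm.card_compl_support_modEq (p := 3) (n := 1) (σ := σ) (by rw [pow_one]; exact h3)
  have he : σ.supportᶜ = ∅ :=
    Finset.eq_empty_of_forall_notMem fun x hx => hfree x (by simpa using hx)
  rw [he, Finset.card_empty] at h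
  exact Nat.dvd_of_mod_eq_zero h.symm

/-- In a strongly regular graph on 100 vertices of valency 22 the parameters are 0 and 6. -/
theorem params_eq {V : Type*} [Fintype V] [DecidableEq V] {Γ : SimpleGraph V} [DecidableRel Γ.Adj]
    {ℓ μ : ℕ} (h : Γ.IsSRGWith 100 22 ℓ μ) (hℓ : ℓ < 22) : ℓ = 0 ∧ μ = 6 := by
  have hp := SimpleGraph.IsSRGWith.param_eq Γ h (by norm_num)
  let T := Σ x : V, Σ y : Γ.neighborSet x, Γ.commonNeighbors x (y : V)
  have hT : Fintype.card T = 100 * (22 * ℓ) := by
    have h1 : ∀ x : V, ∑ y : Γ.neighborSet x, Fintype.card (Γ.commonNeighbors x (y : V)) = 22 * ℓ :=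
      fun x => by
        rw [Finset.sum_congr rfl fun (y : Γ.neighborSet x) _ => h.of_adj x y.1 y.2, Finset.sum_const, Finset.card_univ,
          SimpleGraph.card_neighborSet_eq_degree, h.regular x, smul_eq_mul]
    rw [Fintype.card_sigma, Finset.sum_congr rfl fun x _ => Fintype.card_sigma.trans (h1 x),
      Finset.sum_const, Finset.card_univ, h.card, smul_eq_mul]
  let f : T → T := fun t =>
    ⟨t.2.1.1, ⟨t.2.2.1, t.2.2.2.2⟩, ⟨t.1, ⟨(t.2.1.2 : Γ.Adj t.1 t.2.1.1).symm,
      (t.2.2.2.1 : Γ.Adj t.1 t.2.2.1).symm⟩⟩⟩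
  have hf : ∀ t, f (f (f t)) = t := fun t => rfl
  let σ : Perm T := { toFun := f, invFun := f ∘ f, left_inv := hf, right_inv := hf }
  have h3 : 3 ∣ Fintype.card T := three_dvd_card σ (Equiv.ext hf) fun t e =>
    (t.2.1.2 : Γ.Adj t.1 t.2.1.1).ne (congrArg Sigma.fst e).symm
  rw [hT] at h3
  have hcases : (ℓ = 0 ∧ μ = 6) ∨ (ℓ = 21 ∧ μ = 0) := by
    interval_cases ℓ <;> omega
  refine hcases.resolve_right ?_
  rintro ⟨rfl, rfl⟩
  let B : V → Finset V := fun x => insert x (Γ.neighborFinset x)
  have hsub : ∀ x z, Γ.Adj x z → B z ⊆ B x := by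
    intro x z hxz w hw
    simp only [B, Finset.mem_insert, SimpleGraph.mem_neighborFinset] at hw ⊢
    rcases hw with rfl | hw
    · exact Or.inr hxz
    · by_contra hne
      push Not at hne
      have hempty : Fintype.card (Γ.commonNeighbors x w) = 0 := h.of_not_adj (Ne.symm hne.1) hne.2
      exact (Fintype.card_eq_zero_iff.1 hempty).false ⟨z, hxz, hw.symm⟩
  have hB : ∀ x y, B y = B x ↔ y ∈ B x := by
    intro x y
    refine ⟨fun e => e ▸ Finset.mem_insert_self y _, fun hy => ?_⟩
    rcases Finset.mem_insert.1 hy with rfl | hy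
    · rfl
    · rw [SimpleGraph.mem_neighborFinset] at hy
      exact Finset.Subset.antisymm (hsub x y hy) (hsub y x hy.symm)
  have hcard : ∀ x, (B x).card = 23 := fun x => by
    rw [Finset.card_insert_of_notMem (by simp), SimpleGraph.card_neighborFinset_eq_degree, h.regular x]
  have hsum := Finset.card_eq_sum_card_image B Finset.univ
  rw [Finset.sum_const_nat (m := 23) (fun s hs => ?_), Finset.card_univ, h.card] at hsum
  · omega
  · obtain ⟨x, -, rfl⟩ := Finset.mem_image.1 hs
    rw [← hcard x]
    congr 1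
    ext y
    simp [hB x y]

/-- A subgroup of the symmetries of the standard graph of order 44352000 consists of even ones. -/
theorem eq_hs_of_card {P : Subgroup (Perm (Fin 100))} (hP : P ≤ autGraph)
    (hcard : Nat.card P = 44352000) : P = hs := by
  let ρ : P →* ℤˣ := Perm.sign.comp P.subtype
  have hker : 22176000 ≤ Nat.card ρ.ker := by
    have h := Subgroup.card_mul_index ρ.ker
    rw [Subgroup.index_ker, hcard] at h
    have h2 : Nat.card ρ.range ≤ 2 :=
      (Nat.card_le_card_of_injective _ ρ.range.subtype_injective).trans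
        (by rw [Nat.card_eq_fintype_card, Fintype.card_units_int])
    calc 22176000 = 44352000 / 2 := rfl
      _ ≤ Nat.card ρ.ker := Nat.div_le_of_le_mul (by rw [← h, mul_comm 2]; exact Nat.mul_le_mul le_rfl h2)
  have hK : Nat.card ρ.ker ≤ Nat.card (P.subgroupOf hs) := by
    refine Nat.card_le_card_of_injective
      (fun k => ⟨⟨k.1.1, hP k.1.2, Perm.mem_alternatingGroup.2 k.2⟩, k.1.2⟩) fun x y e => ?_
    exact Subtype.ext (Subtype.ext (congrArg (fun z => z.1.1) e))
  have hidx : (P.subgroupOf hs).index ≤ 2 := by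
    have h := Subgroup.index_mul_card (P.subgroupOf hs)
    rw [card_hs] at h
    by_contra hgt
    have h66 : 66528000 ≤ (P.subgroupOf hs).index * Nat.card (P.subgroupOf hs) :=
      (show 66528000 = 3 * 22176000 from rfl) ▸ Nat.mul_le_mul (by omega) (hker.trans hK)
    omega
  haveI := hs_isSimpleGroup
  have hn : (P.subgroupOf hs).Normal := by
    rcases Nat.lt_or_ge (P.subgroupOf hs).index 2 with h | h
    · have h0 := (P.subgroupOf hs).index_ne_zero_of_finite
      rw [Subgroup.index_eq_one.1 (show (P.subgroupOf hs).index = 1 by omega)]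
      infer_instance
    · exact Subgroup.normal_of_index_eq_two (by omega)
  rcases hn.eq_bot_or_eq_top with h | h
  · have := hker.trans hK
    rw [h, Subgroup.card_bot] at this
    omega
  · exact (Subgroup.eq_of_le_of_card_ge (Subgroup.subgroupOf_eq_top.1 h)
      (by rw [hcard, card_hs])).symm

open scoped Classical in
/-- Recognition of the group of the graph. -/
theorem nonempty_mulEquiv_hs {G Ω : Type*} [Group G] [Finite G] [Fintype Ω] [MulAction G Ω]
    [FaithfulSMul G Ω] [MulAction.IsPretransitive G Ω] (hΩ : Fintype.card Ω = 100)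
    (hcard : Nat.card G = 44352000) (a b c : Ω)
    (hb : (MulAction.orbit (MulAction.stabilizer G a) b).ncard = 22)
    (hc : (MulAction.orbit (MulAction.stabilizer G a) c).ncard = 77) : Nonempty (G ≃* hs) := by
  set O₁ := MulAction.orbit (MulAction.stabilizer G a) b with hO₁
  set O₂ := MulAction.orbit (MulAction.stabilizer G a) c with hO₂
  have hself : MulAction.orbit (MulAction.stabilizer G a) a = {a} := by
    ext z
    exact ⟨fun ⟨g, hg⟩ => hg ▸ g.2, fun (hz : z = a) => by rw [hz]; exact MulAction.mem_orbit_self a⟩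
  have hba : b ≠ a := fun e => by rw [hO₁, e, hself, Set.ncard_singleton] at hb; norm_num at hb
  have hca : c ≠ a := fun e => by rw [hO₂, e, hself, Set.ncard_singleton] at hc; norm_num at hc
  have ha1 : a ∉ O₁ := fun h => by
    rw [← MulAction.orbit_eq_iff, hself] at h
    rw [hO₁, ← h, Set.ncard_singleton] at hb
    norm_num at hb
  have hdisj : Disjoint O₁ O₂ := by
    rw [Set.disjoint_left]
    intro z h1 h2
    rw [hO₁, ← MulAction.orbit_eq_iff.2 h1, MulAction.orbit_eq_iff.2 h2] at hb
    exact absurd (hb.symm.trans hc) (by norm_num)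
  have ha2 : a ∉ O₂ := fun h => by
    rw [← MulAction.orbit_eq_iff, hself] at h
    rw [hO₂, ← h, Set.ncard_singleton] at hc
    norm_num at hc
  have hcover : ∀ z, z = a ∨ z ∈ O₁ ∨ z ∈ O₂ := by
    have hU : (insert a (O₁ ∪ O₂) : Set Ω) = Set.univ := by
      refine Set.eq_of_subset_of_ncard_le (Set.subset_univ _) ?_ (Set.toFinite _)
      rw [Set.ncard_univ, Nat.card_eq_fintype_card, hΩ, Set.ncard_insert_of_notMem (by simp [ha1, ha2]),
        Set.ncard_union_eq hdisj, hb, hc]
    intro z
    have := hU.symm ▸ Set.mem_univ z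
    simpa [or_assoc] using this
  -- the suborbit of length 22 is self-paired
  obtain ⟨g₀, hg₀⟩ := MulAction.exists_smul_eq G b a
  have hd : g₀ • a ∈ O₁ := by
    have hn : (MulAction.orbit (MulAction.stabilizer G a) (g₀ • a)).ncard = 22 := by
      rw [ncard_suborbit_reverse hg₀, ← card_orbit_pair, hb]
    rcases hcover (g₀ • a) with e | e | e
    · rw [e, hself, Set.ncard_singleton] at hn; norm_num at hn
    · exact e
    · rw [MulAction.orbit_eq_iff.2 e, ← hO₂, hc] at hn; norm_num at hn
  obtain ⟨⟨h₀, hh₀⟩, he₀⟩ := hd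
  have hflip : Rel (G := G) a b b a := ⟨g₀⁻¹ * h₀,
    by rw [mul_smul, MulAction.mem_stabilizer_iff.1 hh₀, ← hg₀, inv_smul_smul],
    by rw [mul_smul, show h₀ • b = g₀ • a from he₀, inv_smul_smul]⟩
  let Γ : SimpleGraph Ω :=
    { Adj := Rel (G := G) a b
      symm := ⟨fun x y ⟨g, hx, hy⟩ => hx ▸ hy ▸ rel_smul g hflip⟩
      loopless := ⟨fun x ⟨g, hx, hy⟩ => hba (MulAction.injective g (hy.trans hx.symm))⟩ }
  have hinv : ∀ (g : G) (x y : Ω), Γ.Adj (g • x) (g • y) ↔ Γ.Adj x y := fun g x y =>
    ⟨fun h => by simpa using rel_smul g⁻¹ (show Rel (G := G) a b (g • x) (g • y) from h),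
      fun h => rel_smul g h⟩
  have hnb : ∀ z, Γ.Adj a z ↔ z ∈ O₁ := fun z => by
    show Rel (G := G) a b a z ↔ _
    rw [rel_iff (one_smul G a), inv_one, one_smul]
  have hcommon : ∀ (g : G) (x y : Ω), Fintype.card (Γ.commonNeighbors (g • x) (g • y)) =
      Fintype.card (Γ.commonNeighbors x y) := fun g x y => by
    refine Fintype.card_congr ((Equiv.subtypeEquiv (MulAction.toPerm g : Perm Ω) fun z => ?_).symm)
    exact and_congr (hinv g x z).symm (hinv g y z).symm
  have hsrg : Γ.IsSRGWith 100 22 (Fintype.card (Γ.commonNeighbors a b))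
      (Fintype.card (Γ.commonNeighbors a c)) := by
    refine ⟨hΩ, fun x => ?_, fun x y hxy => ?_, fun x y hne hxy => ?_⟩
    · obtain ⟨t, rfl⟩ := MulAction.exists_smul_eq G a x
      rw [← SimpleGraph.card_neighborSet_eq_degree, ← Nat.card_eq_fintype_card, ← hb,
        ← Nat.card_coe_set_eq]
      refine Nat.card_congr ((Equiv.subtypeEquiv (MulAction.toPerm t : Perm Ω) fun z => ?_).symm)
      exact ((hinv t a z).trans (hnb z)).symm
    · obtain ⟨t, rfl, rfl⟩ := hxy
      exact hcommon t a b
    · obtain ⟨t, rfl⟩ := MulAction.exists_smul_eq G a x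
      obtain ⟨z, rfl⟩ : ∃ z, t • z = y := ⟨t⁻¹ • y, smul_inv_smul t y⟩
      rw [hinv, hnb] at hxy
      rcases hcover z with e | e | e
      · exact absurd (by rw [e]) hne
      · exact absurd e hxy
      · obtain ⟨k, rfl⟩ := e
        rw [hcommon t]
        have hk : k.1 • a = a := k.2
        refine Eq.trans ?_ (hcommon k.1 a c)
        show Fintype.card (Γ.commonNeighbors a (k.1 • c)) = _
        congr! 2
        rw [hk]
  have hlt : Fintype.card (Γ.commonNeighbors a b) < 22 := by
    have h1 : Γ.Adj a b := ⟨1, one_smul G a, one_smul G b⟩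
    rw [← hsrg.regular a]
    exact SimpleGraph.Adj.card_commonNeighbors_lt_degree h1
  obtain ⟨e1, e2⟩ := params_eq hsrg hlt
  rw [e1, e2] at hsrg
  obtain ⟨φ⟩ := GraphUnique.unique100 hsrg stdGraph_srg
  let Φ : G →* Perm (Fin 100) := (Equiv.permCongrHom φ.toEquiv).toMonoidHom.comp (MulAction.toPermHom G Ω)
  have hΦ : Function.Injective Φ :=
    (Equiv.permCongrHom φ.toEquiv).injective.comp MulAction.toPerm_injective
  have hle : Φ.range ≤ autGraph := by
    rintro _ ⟨g, rfl⟩ u v
    have key : ∀ x y, adjB (φ x) (φ y) = true ↔ Γ.Adj x y := fun x y => φ.map_rel_iff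
    obtain ⟨x, rfl⟩ := φ.surjective u
    obtain ⟨y, rfl⟩ := φ.surjective v
    rw [Bool.eq_iff_iff]
    show adjB (φ (g • φ.toEquiv.symm (φ.toEquiv x))) (φ (g • φ.toEquiv.symm (φ.toEquiv y))) = true ↔ _
    rw [Equiv.symm_apply_apply, Equiv.symm_apply_apply, key, key, hinv]
  have hrange : Φ.range = hs :=
    eq_hs_of_card hle (by rw [← Nat.card_congr (MonoidHom.ofInjective hΦ).toEquiv, hcard])
  exact ⟨(MonoidHom.ofInjective hΦ).trans (MulEquiv.subgroupCongr hrange)⟩

end CfsgLib.RankThree
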