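import Cfsg.Agent.RankThree.McLRecData
import Cfsg.Agent.GraphPerm.McLData
import Mathlib.GroupTheory.Index
import Mathlib.Algebra.Order.BigOperators.Group.Finset

/-!
# The symmetries of the graph of McLaughlin are at most twice the McLaughlin group
-/

set_option autoImplicit false
set_option maxRecDepth 100000

namespace CfsgLib.McLRec

open CfsgLib.GraphPerm CfsgLib.GraphPerm.McLModel
open Equiv (Perm)

/-- The symmetries. -/
def autM : Subgroup (Perm (Fin 275)) := autR 275 graph

/-- Adjacency on the numbered vertices. -/
def adjF (u v : Fin 275) : Bool := adjT 275 graph u.val v.val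

theorem adjF_map {g : Perm (Fin 275)} (hg : g ∈ autM) (u v : Fin 275) : adjF (g u) (g v) = adjF u v :=
  hg u v

/-- Equalities and adjacencies of a vertex with a list. -/
def sigB : List (Fin 275) → Fin 275 → ℕ
  | [], _ => 0
  | b :: B, v => 4 * sigB B v + (adjF v b).toNat + if v = b then 2 else 0

/-- The vertices of a given signature. -/
def membersB (B : List (Fin 275)) (p : ℕ) : List (Fin 275) :=
  (List.finRange 275).filter fun u => sigB B u == p

/-- The signature refined by valencies into the classes `ps`. -/
def colB (B : List (Fin 275)) (ps : List ℕ) (v : Fin 275) : List ℕ :=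
  sigB B v :: ps.map fun p => (membersB B p).countP (adjF v)

theorem sigB_map {g : Perm (Fin 275)} (hg : g ∈ autM) : ∀ (B : List (Fin 275)) (v : Fin 275),
    sigB (B.map g) (g v) = sigB B v
  | [], _ => rfl
  | b :: B, v => by
    simp only [List.map_cons, sigB, sigB_map hg B v, adjF_map hg, g.injective.eq_iff]

theorem colB_map {g : Perm (Fin 275)} (hg : g ∈ autM) (B : List (Fin 275)) (ps : List ℕ) (v : Fin 275) :
    colB (B.map g) ps (g v) = colB B ps v := by
  simp only [colB, sigB_map hg, membersB, List.countP_filter]
  congr 1
  refine List.map_congr_left fun p _ => ?_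
  have hperm : ((List.finRange 275).map g).Perm (List.finRange 275) :=
    (List.perm_ext_iff_of_nodup ((List.nodup_finRange 275).map g.injective) (List.nodup_finRange 275)).2
      fun x => by simpa using g.surjective x
  rw [← hperm.countP_eq, List.countP_map]
  refine List.countP_congr fun u _ => ?_
  simp [sigB_map hg, adjF_map hg]

/-- The base. -/
def baseF : List (Fin 275) := Data.baseB.map (Fin.ofNat 275 ·)

/-- The classes tested at each level. -/
def basePs (k : ℕ) : List ℕ :=
  if k = 0 then [] else
    ((Data.baseTests.getD (k - 1) []).map fun r => sigB (baseF.take k) (Fin.ofNat 275 r))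

/-- The size of the class of the next base point. -/
def levelSize (k : ℕ) : ℕ :=
  (List.finRange 275).countP fun v =>
    colB (baseF.take k) (basePs k) v == colB (baseF.take k) (basePs k) (baseF.getD k 0)

theorem levels_ok : ((List.range 7).map levelSize) = [275, 112, 30, 54, 2, 9, 2] := by
  decide +kernel

theorem distinct_ok : ((List.finRange 275).map (colB baseF (basePs 7))).Nodup := by
  decide +kernel

theorem baseF_length : baseF.length = 7 := by decide

theorem card_images_succ (k : ℕ) (hk : k < 7) :
    Nat.card {l : List (Fin 275) | ∃ g ∈ autM, (baseF.take (k + 1)).map g = l} ≤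
      levelSize k * Nat.card {l : List (Fin 275) | ∃ g ∈ autM, (baseF.take k).map g = l} := by
  classical
  set A : ℕ → Finset (List (Fin 275)) := fun j =>
    (Finset.univ.filter fun g : Perm (Fin 275) => g ∈ autM).image fun g : Perm (Fin 275) => (baseF.take j).map g
    with hA
  have hmem : ∀ j l, l ∈ A j ↔ ∃ g ∈ autM, (baseF.take j).map g = l := by
    intro j l
    simp [hA]
  have hcard : ∀ j, Nat.card {l : List (Fin 275) | ∃ g ∈ autM, (baseF.take j).map g = l} = (A j).card := by
    intro j
    rw [Nat.card_coe_set_eq, ← Set.ncard_coe_finset]
    congr 1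
    ext l
    simp [hmem]
  rw [hcard, hcard]
  have hk' : k < baseF.length := by rw [baseF_length]; exact hk
  refine Finset.card_le_mul_card_image_of_maps_to (f := fun l => l.take k) (fun l hl => ?_) _ fun t ht => ?_
  · obtain ⟨g, hg, rfl⟩ := (hmem _ _).1 hl
    exact (hmem _ _).2 ⟨g, hg, by rw [← List.map_take, List.take_take, min_eq_left (Nat.le_succ k)]⟩
  · obtain ⟨g₀, hg₀, rfl⟩ := (hmem _ _).1 ht
    refine (Finset.card_le_card (t := ((Finset.univ.filter fun v =>
      colB ((baseF.take k).map g₀) (basePs k) v =
        colB ((baseF.take k).map g₀) (basePs k) (g₀ (baseF.getD k 0))).image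
          fun v => (baseF.take k).map g₀ ++ [v])) ?_).trans ?_
    · intro l hl
      simp only [Finset.mem_filter] at hl
      obtain ⟨hl, hlk⟩ := hl
      obtain ⟨g, hg, rfl⟩ := (hmem _ _).1 hl
      rw [← List.map_take, List.take_take, min_eq_left (Nat.le_succ k)] at hlk
      simp only [Finset.mem_image, Finset.mem_filter, Finset.mem_univ, true_and]
      refine ⟨g (baseF.getD k 0), ?_, ?_⟩
      · rw [colB_map hg₀, ← hlk, colB_map hg]
      · rw [List.take_succ_eq_append_getElem hk', List.map_append, hlk, List.map_singleton,
          List.getD_eq_getElem _ _ hk']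
    · refine Finset.card_image_le.trans (le_of_eq ?_)
      rw [levelSize, List.countP_eq_length_filter,
        ← List.toFinset_card_of_nodup ((List.nodup_finRange 275).filter _)]
      refine Finset.card_bij' (fun v _ => g₀⁻¹ v) (fun v _ => g₀ v) ?_ ?_ ?_ ?_
      · intro v hv
        simp only [Finset.mem_filter, Finset.mem_univ, true_and] at hv
        simp only [List.mem_toFinset, List.mem_filter, List.mem_finRange, beq_iff_eq, true_and]
        rw [← colB_map hg₀, ← colB_map hg₀ (v := baseF.getD k 0)]
        simpa using hv
      · intro v hv
        simp only [List.mem_toFinset, List.mem_filter, List.mem_finRange, beq_iff_eq, true_and] at hv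
        simp only [Finset.mem_filter, Finset.mem_univ, true_and, colB_map hg₀, hv]
      · intro v _; simp
      · intro v _; simp

/-- The symmetries are at most twice the order of the McLaughlin group. -/
theorem natCard_autM_le : Nat.card autM ≤ 1796256000 := by
  classical
  have hinj : Function.Injective fun g : autM =>
      (⟨(baseF.take 7).map g.1, g.1, g.2, rfl⟩ :
        {l : List (Fin 275) | ∃ g ∈ autM, (baseF.take 7).map g = l}) := by
    intro g h e
    have he : baseF.map g.1 = baseF.map h.1 := by
      have := congrArg Subtype.val e
      simpa only [List.take_of_length_le (le_of_eq baseF_length)] using this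
    refine Subtype.ext (Equiv.ext fun v => ?_)
    have h1 : colB (baseF.map g.1) (basePs 7) (g.1 v) = colB (baseF.map g.1) (basePs 7) (h.1 v) := by
      rw [colB_map g.2, he, colB_map h.2]
    obtain ⟨w, hw⟩ := g.1.surjective (h.1 v)
    rw [← hw, colB_map g.2, colB_map g.2] at h1
    have := List.inj_on_of_nodup_map distinct_ok (List.mem_finRange v) (List.mem_finRange w) h1
    subst this
    exact hw
  haveI : ∀ k, Finite {l : List (Fin 275) | ∃ g ∈ autM, (baseF.take k).map g = l} := fun k =>
    Set.Finite.to_subtype ((Set.toFinite (autM : Set (Perm (Fin 275)))).image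
      (fun g : Perm (Fin 275) => (baseF.take k).map g))
  refine (Nat.card_le_card_of_injective _ hinj).trans ?_
  have step : ∀ k, k ≤ 7 → Nat.card {l : List (Fin 275) | ∃ g ∈ autM, (baseF.take k).map g = l} ≤
      (((List.range 7).map levelSize).take k).prod := by
    intro k
    induction k with
    | zero =>
      intro _
      simp only [List.take_zero, List.prod_nil]
      rw [Nat.card_coe_set_eq]
      refine (Set.ncard_le_ncard (t := {([] : List (Fin 275))}) ?_ (Set.finite_singleton _)).trans
        (Set.ncard_singleton _).le
      rintro l ⟨g, -, rfl⟩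
      simp
    | succ k ih =>
      intro hk
      refine (card_images_succ k hk).trans ?_
      rw [List.take_succ_eq_append_getElem (by simpa using hk), List.prod_append, List.prod_singleton,
        List.getElem_map, List.getElem_range, mul_comm]
      exact Nat.mul_le_mul_right _ (ih (by omega))
  refine (step 7 le_rfl).trans ?_
  rw [levels_ok]
  norm_num

end CfsgLib.McLRec
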