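import Cfsg.Agent.RankThree.McLHemisystems
import Cfsg.Agent.RankThree.McLGraphOrder

/-!
# The graph on 275 vertices with the lines of U(4,3) as a first subconstituent

The second subconstituent is read off as a class of 162 hemisystems, so the graph is that of McLaughlin.
-/

set_option autoImplicit false
set_option maxRecDepth 100000

namespace CfsgLib.McLRec

open CfsgLib.GraphPerm (tget forBelow forBelow_iff adjT)
open Equiv (Perm)

/-- The lines of a family member. -/
def lineSet (k : ℕ) : Finset (Fin 112) := Finset.univ.filter fun l => (fam k).testBit l.val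

theorem countP_range_eq_card (n : ℕ) (p : ℕ → Bool) :
    (List.range n).countP p = ((Finset.univ : Finset (Fin n)).filter fun i => p i.val = true).card := by
  rw [List.countP_eq_length_filter, ← List.toFinset_card_of_nodup (List.nodup_range.filter _)]
  refine Finset.card_bij' (fun i hi => ⟨i, by simp at hi; exact hi.1⟩) (fun i _ => i.val) ?_ ?_ ?_ ?_
  all_goals simp +contextual

theorem card_inter_lineSet (k j : ℕ) : (lineSet k ∩ lineSet j).card = interN k j := by
  rw [interN, pcT_eq, countP_range_eq_card]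
  refine congrArg Finset.card (Finset.ext fun l => ?_)
  simp [lineSet, Nat.testBit_and]

/-- The lines meeting a given one. -/
def meetSet (l : Fin 112) : Finset (Fin 112) := Finset.univ.filter fun m => gAdjN l.val m.val

theorem meetRow_bit (l m : Fin 112) : (meetRow l.val).testBit m.val = gAdjN l.val m.val := by
  have h := forBelow_iff.1 meet_ok l.1 l.2
  simp only [Bool.and_eq_true, forBelow_iff, beq_iff_eq] at h
  exact (h.2 m.1 m.2).1.1

theorem card_meetSet (l : Fin 112) : (meetSet l).card = 30 := by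
  have h := forBelow_iff.1 meet_ok l.1 l.2
  simp only [Bool.and_eq_true, beq_iff_eq] at h
  rw [← h.1, pcT_eq, countP_range_eq_card]
  refine congrArg Finset.card (Finset.ext fun m => ?_)
  simp [meetSet, meetRow_bit]

theorem gAdjN_comm (l m : Fin 112) : gAdjN l.val m.val = gAdjN m.val l.val := by
  simp only [gAdjN, Nat.land_comm (lineMask l.val)]
  congr 1
  exact decide_eq_decide.2 ⟨Ne.symm, Ne.symm⟩

theorem gAdjN_self (l : ℕ) : gAdjN l l = false := by simp [gAdjN]

theorem card_meetSet_inter {l m : Fin 112} (h : l ≠ m) :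
    (meetSet l ∩ meetSet m).card = if gAdjN l.val m.val then 2 else 10 := by
  wlog hlt : l < m generalizing l m
  · rw [Finset.inter_comm, gAdjN_comm]
    exact this h.symm (lt_of_le_of_ne (not_lt.1 hlt) h.symm)
  have hm := forBelow_iff.1 meet_ok l.1 l.2
  simp only [Bool.and_eq_true, forBelow_iff, beq_iff_eq, Bool.or_eq_true, decide_eq_true_eq] at hm
  rw [← (hm.2 m.1 m.2).2.resolve_left (not_le.2 hlt), pcT_eq, countP_range_eq_card]
  refine congrArg Finset.card (Finset.ext fun x => ?_)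
  simp [meetSet, meetRow_bit, Nat.testBit_and]

theorem lineSet_facts {k : ℕ} (hk : k < 162) : (lineSet k).card = 56 ∧
    ∀ l ∈ lineSet k, (meetSet l ∩ lineSet k).card = 10 := by
  constructor
  · have h := forBelow_iff.1 fam_complement k hk
    simp only [Bool.and_eq_true, beq_iff_eq] at h
    rw [← h.1.2, pcT_eq, countP_range_eq_card]
    rfl
  · intro l hl
    have h := forBelow_iff.1 (forBelow_iff.1 inner_ok k hk) l.1 l.2
    simp only [lineSet, Finset.mem_filter, Finset.mem_univ, true_and] at hl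
    rw [hl] at h
    simp only [Bool.not_true, Bool.false_or, beq_iff_eq] at h
    rw [← h, pcT_eq, countP_range_eq_card]
    refine congrArg Finset.card (Finset.ext fun x => ?_)
    simp [meetSet, lineSet, meetRow_bit, Nat.testBit_and]

theorem inter_facts {k j : ℕ} (hk : k < 162) (hj : j < 162) :
    (k = j → interN k j = 56) ∧ (k ≠ j → interN k j = 20 ∨ interN k j = 32) ∧
      adjM (farV k) (farV j) = (interN k j == 20) := by
  have hsym : ∀ a b, interN a b = interN b a := fun a b => by simp only [interN, Nat.land_comm]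
  rcases Nat.lt_or_ge k j with h | h
  · have e := forBelow_iff.1 inter_ok j hj
    simp only [Bool.and_eq_true, forBelow_iff] at e
    obtain ⟨⟨e1, e2⟩, e3⟩ := e.1 k (by omega)
    rw [hsym k j]
    refine ⟨fun he => absurd he (by omega), fun _ => ?_, by simpa using e3⟩
    rw [if_neg (by simp; omega)] at e1
    simpa using e1
  · have e := forBelow_iff.1 inter_ok k hk
    simp only [Bool.and_eq_true, forBelow_iff] at e
    obtain ⟨⟨e1, e2⟩, e3⟩ := e.1 j (by omega)
    refine ⟨fun he => ?_, fun hne => ?_, by simpa using e2⟩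
    · subst he; simpa using e1
    · rw [if_neg (by simp; omega)] at e1
      simpa using e1

theorem lineSet_complement {k : ℕ} (hk : k < 162) :
    lineSet (162 + k) = (lineSet k)ᶜ ∧ lineSet (486 + k) = (lineSet (324 + k))ᶜ := by
  have h := forBelow_iff.1 fam_complement k hk
  simp only [Bool.and_eq_true, beq_iff_eq] at h
  have hall : ∀ l : Fin 112, allLines.testBit l.val = true := fun l => by
    rw [allLines, Nat.testBit_two_pow_sub_one]; simp [l.2]
  constructor
  all_goals
    ext l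
    simp [lineSet, h.1.1.1, h.1.1.2, Nat.testBit_xor, hall]

/-- The common lines of a member of the first class with one outside it are never 20, 32 or 56. -/
theorem not_good {k j : ℕ} (hk : k < 162) (hj : 162 ≤ j) (hj' : j < 648) :
    (lineSet k ∩ lineSet j).card ≠ 20 ∧ (lineSet k ∩ lineSet j).card ≠ 32 ∧
      (lineSet k ∩ lineSet j).card ≠ 56 := by
  have h56 := (lineSet_facts hk).1
  have hO3 : ∀ i < 162, (lineSet k ∩ lineSet (324 + i)).card = 16 ∨
      (lineSet k ∩ lineSet (324 + i)).card = 28 ∨ (lineSet k ∩ lineSet (324 + i)).card = 40 := by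
    intro i hi
    have e := forBelow_iff.1 inter_ok k hk
    simp only [Bool.and_eq_true, forBelow_iff] at e
    simpa [card_inter_lineSet, or_assoc] using e.2 i hi
  have hcompl : ∀ T : Finset (Fin 112), (lineSet k ∩ Tᶜ).card = 56 - (lineSet k ∩ T).card := by
    intro T
    have := Finset.card_sdiff_add_card_inter (lineSet k) T
    rw [Finset.sdiff_eq_inter_compl, h56] at this
    omega
  rcases Nat.lt_or_ge j 324 with h | h
  · obtain ⟨i, hi, rfl⟩ : ∃ i < 162, j = 162 + i := ⟨j - 162, by omega, by omega⟩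
    rw [(lineSet_complement hi).1, hcompl, card_inter_lineSet]
    have := inter_facts hk hi
    by_cases e : k = i
    · rw [this.1 e]; omega
    · rcases this.2.1 e with e' | e' <;> rw [e'] <;> omega
  · rcases Nat.lt_or_ge j 486 with h' | h'
    · obtain ⟨i, hi, rfl⟩ : ∃ i < 162, j = 324 + i := ⟨j - 324, by omega, by omega⟩
      rcases hO3 i hi with e | e | e <;> rw [e] <;> omega
    · obtain ⟨i, hi, rfl⟩ : ∃ i < 162, j = 486 + i := ⟨j - 486, by omega, by omega⟩
      rw [(lineSet_complement hi).2, hcompl]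
      rcases hO3 i hi with e | e | e <;> rw [e] <;> omega

/-- A permutation of the lines carrying a class to the first. -/
theorem exists_tau (c : ℕ) (hc : c < 4) : ∃ τ : Perm (Fin 112),
    (∀ l m : Fin 112, gAdjN (τ l).val (τ m).val = gAdjN l.val m.val) ∧
      ∀ k < 162, ∃ k' < 162, (lineSet (162 * c + k)).image τ = lineSet k' := by
  have h := forBelow_iff.1 tau_ok c hc
  simp only [Bool.and_eq_true, forBelow_iff, decide_eq_true_eq, beq_iff_eq] at h
  obtain ⟨⟨h1, h2⟩, h4⟩ := h
  let f : Fin 112 → Fin 112 := fun l => ⟨_, (h1 l.1 l.2).1⟩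
  have hf : Function.Injective f := fun l m e => Fin.ext
    (List.inj_on_of_nodup_map (CfsgLib.GraphPerm.nodup_of_noDup h2) (List.mem_range.2 l.2)
      (List.mem_range.2 m.2) (congrArg Fin.val e))
  refine ⟨Equiv.ofBijective f (Finite.injective_iff_bijective.1 hf), fun l m => (h1 l.1 l.2).2 m.1 m.2,
    fun k hk => ⟨_, (h4 k hk).1, ?_⟩⟩
  ext x
  obtain ⟨l, rfl⟩ := (Finite.injective_iff_bijective.1 hf).2 x
  simp only [Finset.mem_image, Equiv.ofBijective_apply, hf.eq_iff, exists_eq_right]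
  simp only [lineSet, Finset.mem_filter, Finset.mem_univ, true_and]
  rw [← (h4 k hk).2 l.1 l.2]

/-- A subgroup of index at most four of a big simple group is everything. -/
theorem eq_top_of_injective {A α : Type*} [Group A] [Finite A] [IsSimpleGroup A] [Fintype α]
    (hα : Fintype.card α ≤ 4) (hA : 24 < Nat.card A) {H : Subgroup A} (f : A → α)
    (hf : ∀ g h : A, f g = f h → g⁻¹ * h ∈ H) : H = ⊤ := by
  classical
  by_contra hne
  have hidx : H.index ≤ 4 := by
    refine le_trans ?_ (hα.trans' (le_of_eq Nat.card_eq_fintype_card))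
    refine Nat.card_le_card_of_injective (fun q : A ⧸ H => f q.out) fun q r e => ?_
    rw [← QuotientGroup.out_eq' q, ← QuotientGroup.out_eq' r, QuotientGroup.eq]
    exact hf _ _ e
  rcases (Subgroup.normalCore_normal H).eq_bot_or_eq_top with h | h
  · have hinj : Function.Injective (MulAction.toPermHom A (A ⧸ H)) := by
      rw [← MonoidHom.ker_eq_bot_iff, ← Subgroup.normalCore_eq_ker, h]
    have h1 := Nat.card_le_card_of_injective _ hinj
    rw [Nat.card_perm, show Nat.card (A ⧸ H) = H.index from rfl] at h1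
    have h2 : H.index.factorial ≤ 24 := (Nat.factorial_le hidx).trans (le_of_eq rfl)
    omega
  · exact hne (top_le_iff.1 (h ▸ H.normalCore_le))

section graph

variable {G Ω : Type*} [Group G] [MulAction G Ω] [Fintype Ω]

/-- The hypotheses on the graph. -/
structure LineGraphData (Γ : SimpleGraph Ω) (a : Ω) (ν : Fin 112 → Ω) : Prop where
  card : Fintype.card Ω = 275
  deg : ∀ x, {z | Γ.Adj x z}.ncard = 112
  adj : ∀ x y, Γ.Adj x y → {z | Γ.Adj x z ∧ Γ.Adj y z}.ncard = 30
  nadj : ∀ x y, x ≠ y → ¬ Γ.Adj x y → {z | Γ.Adj x z ∧ Γ.Adj y z}.ncard = 56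
  inj : Function.Injective ν
  range : ∀ z, Γ.Adj a z ↔ ∃ l, ν l = z
  lines : ∀ l m, Γ.Adj (ν l) (ν m) ↔ gAdjN l.val m.val = true

open Classical in
/-- The lines adjacent to a vertex. -/
noncomputable def nbSet (Γ : SimpleGraph Ω) (ν : Fin 112 → Ω) (x : Ω) : Finset (Fin 112) :=
  Finset.univ.filter fun l => Γ.Adj x (ν l)

variable {Γ : SimpleGraph Ω} {a : Ω} {ν : Fin 112 → Ω}

open Classical in
/-- The far vertices. -/
noncomputable def farSet (Γ : SimpleGraph Ω) (a : Ω) : Finset Ω :=
  Finset.univ.filter fun x => x ≠ a ∧ ¬ Γ.Adj a x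

open Classical in
theorem card_split (D : LineGraphData Γ a ν) (P : Ω → Prop) [DecidablePred P] :
    {x | P x}.ncard = (if P a then 1 else 0) + (Finset.univ.filter fun l => P (ν l)).card +
      ((farSet Γ a).filter P).card := by
  have hna : ∀ l, ν l ≠ a := fun l e => Γ.irrefl (e ▸ (D.range _).2 ⟨l, rfl⟩)
  have e : {x | P x}.ncard = ((Finset.univ : Finset Ω).filter P).card := by
    rw [← Set.ncard_coe_finset]; simp
  rw [e]
  have hU : (Finset.univ : Finset Ω).filter P =
      ({a} : Finset Ω).filter P ∪ ((Finset.univ.filter fun l => P (ν l)).image ν ∪ (farSet Γ a).filter P) := by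
    ext x
    simp only [farSet, Finset.mem_filter, Finset.mem_univ, true_and, Finset.mem_union, Finset.mem_image,
      Finset.mem_singleton]
    constructor
    · intro hx
      by_cases h1 : x = a
      · exact Or.inl ⟨h1, hx⟩
      · by_cases h2 : Γ.Adj a x
        · obtain ⟨l, rfl⟩ := (D.range x).1 h2
          exact Or.inr (Or.inl ⟨l, hx, rfl⟩)
        · exact Or.inr (Or.inr ⟨⟨h1, h2⟩, hx⟩)
    · rintro (⟨-, h⟩ | ⟨l, h, rfl⟩ | ⟨-, h⟩) <;> exact h
  rw [hU, Finset.card_union_of_disjoint ?_, Finset.card_union_of_disjoint ?_,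
    Finset.card_image_of_injective _ D.inj, Finset.filter_singleton, apply_ite Finset.card,
    Finset.card_singleton, Finset.card_empty, add_assoc]
  · rw [Finset.disjoint_left]
    intro x hx hf
    simp only [farSet, Finset.mem_filter, Finset.mem_image] at hx hf
    obtain ⟨l, -, rfl⟩ := hx
    exact hf.1.2.2 ((D.range _).2 ⟨l, rfl⟩)
  · rw [Finset.disjoint_left]
    intro x hx hf
    simp only [farSet, Finset.mem_filter, Finset.mem_image, Finset.mem_singleton, Finset.mem_union] at hx hf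
    rcases hf with ⟨l, -, rfl⟩ | h
    · exact hna l hx.1
    · exact h.1.2.1 hx.1

theorem card_farSet (D : LineGraphData Γ a ν) : (farSet Γ a).card = 162 := by
  classical
  have h := card_split D (fun _ => True)
  simp only [if_true, Finset.filter_true, Finset.card_univ, Fintype.card_fin] at h
  rw [show {x : Ω | True}.ncard = 275 by rw [Set.setOf_true, Set.ncard_univ, Nat.card_eq_fintype_card, D.card]] at h
  simp at h
  omega

theorem mem_farSet {x : Ω} : x ∈ farSet Γ a ↔ x ≠ a ∧ ¬ Γ.Adj a x := by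
  classical
  simp [farSet]

theorem mem_nbSet {x : Ω} {l : Fin 112} : l ∈ nbSet Γ ν x ↔ Γ.Adj x (ν l) := by
  classical
  simp [nbSet]

open Classical in
theorem count_one (D : LineGraphData Γ a ν) (l : Fin 112) :
    ((farSet Γ a).filter fun x => l ∈ nbSet Γ ν x).card = 81 := by
  have h := card_split D (fun x => Γ.Adj (ν l) x)
  rw [D.deg, if_pos ((D.range _).2 ⟨l, rfl⟩).symm,
    show (Finset.univ.filter fun m => Γ.Adj (ν l) (ν m)) = meetSet l by ext m; simp [meetSet, D.lines],
    card_meetSet] at h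
  have e : ((farSet Γ a).filter fun x => l ∈ nbSet Γ ν x) = (farSet Γ a).filter fun x => Γ.Adj (ν l) x := by
    ext x; simp [mem_nbSet, Γ.adj_comm]
  rw [e]
  omega

open Classical in
theorem count_two (D : LineGraphData Γ a ν) {l m : Fin 112} (hlm : l ≠ m) :
    ((farSet Γ a).filter fun x => l ∈ nbSet Γ ν x ∧ m ∈ nbSet Γ ν x).card =
      if gAdjN l.val m.val then 27 else 45 := by
  have h := card_split D (fun x => Γ.Adj (ν l) x ∧ Γ.Adj (ν m) x)
  rw [if_pos ⟨((D.range _).2 ⟨l, rfl⟩).symm, ((D.range _).2 ⟨m, rfl⟩).symm⟩,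
    show (Finset.univ.filter fun z => Γ.Adj (ν l) (ν z) ∧ Γ.Adj (ν m) (ν z)) = meetSet l ∩ meetSet m by
      ext z; simp [meetSet, D.lines],
    card_meetSet_inter hlm] at h
  have e : ((farSet Γ a).filter fun x => l ∈ nbSet Γ ν x ∧ m ∈ nbSet Γ ν x) =
      (farSet Γ a).filter fun x => Γ.Adj (ν l) x ∧ Γ.Adj (ν m) x := by
    ext x; simp [mem_nbSet, Γ.adj_comm]
  rw [e]
  by_cases hg : gAdjN l.val m.val
  · rw [D.adj _ _ ((D.lines l m).2 hg), if_pos hg] at h
    rw [if_pos hg]; omega
  · rw [D.nadj _ _ (fun e => hlm (D.inj e)) (fun e => hg ((D.lines l m).1 e)), if_neg hg] at h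
    rw [if_neg hg]; omega

open Classical in
/-- First and second moments of the intersections with the sets of lines. -/
theorem moments (D : LineGraphData Γ a ν) (T : Finset (Fin 112)) :
    ∑ x ∈ farSet Γ a, (T ∩ nbSet Γ ν x).card = 81 * T.card ∧
    ∑ x ∈ farSet Γ a, (T ∩ nbSet Γ ν x).card ^ 2 = 81 * T.card +
      ∑ l ∈ T, (27 * (meetSet l ∩ T).card + 45 * (T.card - 1 - (meetSet l ∩ T).card)) := by
  have e : ∀ x, (T ∩ nbSet Γ ν x).card = ∑ l ∈ T, if l ∈ nbSet Γ ν x then 1 else 0 := fun x => by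
    rw [← Finset.card_filter, Finset.filter_mem_eq_inter]
  constructor
  · simp only [e]
    rw [Finset.sum_comm]
    simp only [← Finset.card_filter, count_one D, Finset.sum_const, smul_eq_mul, mul_comm]
  · simp only [e, sq, Finset.sum_mul_sum]
    rw [Finset.sum_comm, show 81 * T.card = ∑ _l ∈ T, 81 by simp [mul_comm], ← Finset.sum_add_distrib]
    refine Finset.sum_congr rfl fun l hl => ?_
    rw [Finset.sum_comm]
    have hterm : ∀ m ∈ T, (∑ x ∈ farSet Γ a, (if l ∈ nbSet Γ ν x then 1 else 0) *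
        if m ∈ nbSet Γ ν x then 1 else 0) =
        if l = m then 81 else if gAdjN l.val m.val then 27 else 45 := by
      intro m _
      simp only [ite_mul, one_mul, zero_mul, ← ite_and, ← Finset.card_filter]
      by_cases hlm : l = m
      · subst hlm
        simp only [and_self, if_true]
        exact count_one D l
      · rw [if_neg hlm]
        exact count_two D hlm
    rw [Finset.sum_congr rfl hterm, ← Finset.add_sum_erase T _ hl, if_pos rfl]
    congr 1
    have hite : ∀ m ∈ T.erase l, (if l = m then 81 else if gAdjN l.val m.val = true then 27 else 45) =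
        if gAdjN l.val m.val = true then 27 else 45 := fun m hm => if_neg (Finset.ne_of_mem_erase hm).symm
    rw [Finset.sum_congr rfl hite, Finset.sum_ite, Finset.sum_const, Finset.sum_const]
    have e1 : ((T.erase l).filter fun m => gAdjN l.val m.val = true) = meetSet l ∩ T := by
      ext m
      simp only [meetSet, Finset.mem_filter, Finset.mem_erase, Finset.mem_inter, Finset.mem_univ, true_and]
      exact ⟨fun h => ⟨h.2, h.1.2⟩, fun h => ⟨⟨fun e => by rw [e, gAdjN_self] at h; simp at h, h.2⟩, h.1⟩⟩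
    have e2 := Finset.card_filter_add_card_filter_not (s := T.erase l) fun m => gAdjN l.val m.val = true
    rw [e1, Finset.card_erase_of_mem hl] at e2
    rw [e1, smul_eq_mul, smul_eq_mul]
    omega

/-- Every far vertex gives a listed hemisystem. -/
theorem exists_fam (D : LineGraphData Γ a ν) {x : Ω} (hx : x ∈ farSet Γ a) :
    ∃ k < 648, nbSet Γ ν x = lineSet k := by
  classical
  have key : ∀ p < 280, (pencil p).countP (fun l => decide (∃ h : l < 112, (⟨l, h⟩ : Fin 112) ∈ nbSet Γ ν x)) = 2 := by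
    intro p hp
    have hP := forBelow_iff.1 pencil_pairs p hp
    simp only [Bool.and_eq_true, List.all_eq_true, decide_eq_true_eq, beq_iff_eq, Bool.or_eq_true] at hP
    obtain ⟨⟨hnd, hlen⟩, hmem⟩ := hP
    have hnd' := CfsgLib.GraphPerm.nodup_of_noDup hnd
    set Q : Finset (Fin 112) := Finset.univ.filter fun l => l.val ∈ pencil p with hQ
    have hQim : Q.image Fin.val = (pencil p).toFinset := by
      ext l
      simp only [hQ, Finset.mem_image, Finset.mem_filter, Finset.mem_univ, true_and, List.mem_toFinset]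
      exact ⟨fun ⟨m, hm, e⟩ => e ▸ hm, fun h => ⟨⟨l, (hmem l h).1⟩, h, rfl⟩⟩
    have hQcard : Q.card = 4 := by
      rw [← Finset.card_image_of_injective Q Fin.val_injective, hQim, List.toFinset_card_of_nodup hnd', hlen]
    have hmeet : ∀ l ∈ Q, (meetSet l ∩ Q).card = 3 := by
      intro l hl
      have : meetSet l ∩ Q = Q.erase l := by
        ext m
        simp only [meetSet, Finset.mem_inter, Finset.mem_filter, Finset.mem_univ, true_and, Finset.mem_erase]
        constructor
        · exact fun h => ⟨fun e => by rw [e, gAdjN_self] at h; simp at h, h.2⟩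
        · intro h
          refine ⟨((hmem l.val (by simpa [hQ] using hl)).2 m.val (by simpa [hQ] using h.2)).resolve_left ?_, h.2⟩
          exact fun e => h.1 (Fin.ext e.symm)
      rw [this, Finset.card_erase_of_mem hl, hQcard]
    obtain ⟨h1, h2⟩ := moments D Q
    have hs : ∑ l ∈ Q, (27 * (meetSet l ∩ Q).card + 45 * (Q.card - 1 - (meetSet l ∩ Q).card)) = 324 := by
      rw [Finset.sum_congr rfl (g := fun _ : Fin 112 => 81) (fun l hl => by rw [hmeet l hl, hQcard]),
        Finset.sum_const, hQcard, smul_eq_mul]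
    rw [hs, hQcard] at h2
    rw [hQcard] at h1
    have hsq : ∑ y ∈ farSet Γ a, (((Q ∩ nbSet Γ ν y).card : ℤ) - 2) ^ 2 = 0 := by
      have h1' : (∑ y ∈ farSet Γ a, ((Q ∩ nbSet Γ ν y).card : ℤ)) = 324 := by exact_mod_cast h1
      have h2' : (∑ y ∈ farSet Γ a, ((Q ∩ nbSet Γ ν y).card : ℤ) ^ 2) = 648 := by exact_mod_cast h2
      simp only [sub_sq, Finset.sum_add_distrib, Finset.sum_sub_distrib, Finset.sum_const, card_farSet D,
        ← Finset.mul_sum, ← Finset.sum_mul, h1', h2']
      norm_num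
    have h0 := (Finset.sum_eq_zero_iff_of_nonneg fun y _ => sq_nonneg _).1 hsq x hx
    have hT : (Q ∩ nbSet Γ ν x).card = 2 := by
      rw [pow_eq_zero_iff (by norm_num), sub_eq_zero] at h0
      exact_mod_cast h0
    rw [List.countP_eq_length_filter, ← List.toFinset_card_of_nodup (hnd'.filter _), ← hT,
      ← Finset.card_image_of_injective (Q ∩ nbSet Γ ν x) Fin.val_injective]
    congr 1
    ext l
    simp only [List.mem_toFinset, List.mem_filter, decide_eq_true_eq, Finset.mem_image, Finset.mem_inter, hQ,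
      Finset.mem_filter, Finset.mem_univ, true_and]
    constructor
    · rintro ⟨h, hlt, hm⟩
      exact ⟨⟨l, hlt⟩, ⟨h, hm⟩, rfl⟩
    · rintro ⟨m, ⟨h, hm⟩, rfl⟩
      exact ⟨h, m.2, hm⟩
  obtain ⟨k, hk, he⟩ := hemisystem_mem key
  refine ⟨k, hk, ?_⟩
  ext l
  simp only [lineSet, Finset.mem_filter, Finset.mem_univ, true_and, he l.val l.2, decide_eq_true_eq]
  exact ⟨fun h => ⟨l.2, h⟩, fun ⟨_, h⟩ => h⟩

/-- The common lines of two far vertices are preserved by the stabiliser. -/
theorem card_inter_smul (D : LineGraphData Γ a ν) (hinv : ∀ (g : G) x y, Γ.Adj (g • x) (g • y) ↔ Γ.Adj x y)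
    {g : G} (hg : g • a = a) (x y : Ω) :
    (nbSet Γ ν (g • x) ∩ nbSet Γ ν (g • y)).card = (nbSet Γ ν x ∩ nbSet Γ ν y).card := by
  classical
  have key : ∀ x y, (nbSet Γ ν x ∩ nbSet Γ ν y).card = {z | Γ.Adj a z ∧ Γ.Adj x z ∧ Γ.Adj y z}.ncard := by
    intro x y
    rw [← Finset.card_image_of_injective _ D.inj, ← Set.ncard_coe_finset]
    congr 1
    ext z
    simp only [Finset.coe_image, Set.mem_image, Finset.mem_coe, Finset.mem_inter, mem_nbSet, Set.mem_setOf_eq]
    constructor
    · rintro ⟨l, h, rfl⟩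
      exact ⟨(D.range _).2 ⟨l, rfl⟩, h⟩
    · rintro ⟨h1, h⟩
      obtain ⟨l, rfl⟩ := (D.range _).1 h1
      exact ⟨l, h, rfl⟩
  rw [key, key, ← Set.ncard_image_of_injective {z | Γ.Adj a z ∧ Γ.Adj x z ∧ Γ.Adj y z} (MulAction.injective g)]
  congr 1
  ext z
  constructor
  · intro h
    refine ⟨g⁻¹ • z, ?_, smul_inv_smul g z⟩
    show Γ.Adj a (g⁻¹ • z) ∧ Γ.Adj x (g⁻¹ • z) ∧ Γ.Adj y (g⁻¹ • z)
    rw [← hinv g a, ← hinv g x, ← hinv g y, smul_inv_smul, hg]
    exact h
  · rintro ⟨w, ⟨h1, h2, h3⟩, rfl⟩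
    exact ⟨hg ▸ (hinv g a w).2 h1, (hinv g x w).2 h2, (hinv g y w).2 h3⟩

/-- With every far vertex in the first class the graph is the model. -/
theorem exists_equiv_of_class (D : LineGraphData Γ a ν)
    (hcls : ∀ x ∈ farSet Γ a, ∃ k < 162, nbSet Γ ν x = lineSet k) :
    ∃ φ : Ω ≃ Fin 275, ∀ x y, Γ.Adj x y ↔ adjF (φ x) (φ y) = true := by
  classical
  choose idx hidx hS using hcls
  -- the intersections with one set
  have hn : ∀ x (hx : x ∈ farSet Γ a),
      ∑ y ∈ farSet Γ a, (nbSet Γ ν x ∩ nbSet Γ ν y).card = 4536 ∧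
        ∑ y ∈ farSet Γ a, (nbSet Γ ν x ∩ nbSet Γ ν y).card ^ 2 = 133056 := by
    intro x hx
    obtain ⟨h1, h2⟩ := moments D (nbSet Γ ν x)
    obtain ⟨hc, hm⟩ := lineSet_facts (hidx x hx)
    rw [hS x hx] at h1 h2 ⊢
    have hs : ∑ l ∈ lineSet (idx x hx), (27 * (meetSet l ∩ lineSet (idx x hx)).card +
        45 * ((lineSet (idx x hx)).card - 1 - (meetSet l ∩ lineSet (idx x hx)).card)) = 128520 := by
      rw [Finset.sum_congr rfl (g := fun _ : Fin 112 => 2295) (fun l hl => by rw [hm l hl, hc]),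
        Finset.sum_const, hc, smul_eq_mul]
    rw [hs, hc] at h2
    rw [hc] at h1
    exact ⟨h1.trans (by norm_num), h2.trans (by norm_num)⟩
  have hvals : ∀ x (hx : x ∈ farSet Γ a) y (hy : y ∈ farSet Γ a),
      (nbSet Γ ν x ∩ nbSet Γ ν y).card = interN (idx x hx) (idx y hy) := fun x hx y hy => by
    rw [hS x hx, hS y hy, card_inter_lineSet]
  have hinj : ∀ x (hx : x ∈ farSet Γ a) y (hy : y ∈ farSet Γ a), idx x hx = idx y hy → x = y := by
    intro x hx y hy e
    by_contra hne
    obtain ⟨h1, h2⟩ := hn x hx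
    have h1' : ∑ z ∈ farSet Γ a, ((nbSet Γ ν x ∩ nbSet Γ ν z).card : ℤ) = 4536 := by exact_mod_cast h1
    have h2' : ∑ z ∈ farSet Γ a, ((nbSet Γ ν x ∩ nbSet Γ ν z).card : ℤ) ^ 2 = 133056 := by exact_mod_cast h2
    set F : Ω → ℤ := fun z => (((nbSet Γ ν x ∩ nbSet Γ ν z).card : ℤ) - 20) *
      (((nbSet Γ ν x ∩ nbSet Γ ν z).card : ℤ) - 32) with hF
    have hsum : ∑ z ∈ farSet Γ a, F z = 864 := by
      have : ∀ z, F z = ((nbSet Γ ν x ∩ nbSet Γ ν z).card : ℤ) ^ 2 -
          52 * ((nbSet Γ ν x ∩ nbSet Γ ν z).card : ℤ) + 640 := fun z => by simp only [hF]; ring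
      simp only [this, Finset.sum_add_distrib, Finset.sum_sub_distrib, ← Finset.mul_sum, h1', h2',
        Finset.sum_const, card_farSet D]
      norm_num
    have h56 : ∀ z (hz : z ∈ farSet Γ a), idx z hz = idx x hx → F z = 864 := fun z hz e => by
      simp only [hF, hvals x hx z hz, (inter_facts (hidx x hx) (hidx z hz)).1 e.symm]
      norm_num
    have hnn : ∀ z ∈ farSet Γ a, 0 ≤ F z := by
      intro z hz
      have hh := inter_facts (hidx x hx) (hidx z hz)
      simp only [hF, hvals x hx z hz]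
      by_cases h : idx x hx = idx z hz
      · rw [hh.1 h]; norm_num
      · rcases hh.2.1 h with e' | e' <;> rw [e'] <;> norm_num
    have hle := Finset.sum_le_sum_of_subset_of_nonneg (f := F) (s := {x, y})
      (by simp [Finset.insert_subset_iff, hx, hy]) (fun z hz _ => hnn z hz)
    rw [hsum, Finset.sum_pair hne, h56 x hx rfl, h56 y hy e.symm] at hle
    norm_num at hle
  have hfar_adj : ∀ x (hx : x ∈ farSet Γ a) y (hy : y ∈ farSet Γ a),
      Γ.Adj x y ↔ interN (idx x hx) (idx y hy) = 20 := by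
    intro x hx
    obtain ⟨hc, hm⟩ := lineSet_facts (hidx x hx)
    have hxa := mem_farSet.1 hx
    set Y := (farSet Γ a).filter fun y => Γ.Adj x y with hY
    set Z := (farSet Γ a).filter fun y => (nbSet Γ ν x ∩ nbSet Γ ν y).card = 20 with hZ
    have hY56 : Y.card = 56 := by
      have h := card_split D (fun z => Γ.Adj x z)
      rw [D.deg, if_neg (fun h => hxa.2 h.symm),
        show (Finset.univ.filter fun l => Γ.Adj x (ν l)) = nbSet Γ ν x by ext l; simp [mem_nbSet],
        hS x hx, hc, ← hY] at h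
      omega
    have hx56 : (nbSet Γ ν x ∩ nbSet Γ ν x).card = 56 := by rw [Finset.inter_self, hS x hx, hc]
    have hval : ∀ y ∈ farSet Γ a, y ≠ x →
        (nbSet Γ ν x ∩ nbSet Γ ν y).card = 20 ∨ (nbSet Γ ν x ∩ nbSet Γ ν y).card = 32 := by
      intro y hy hne
      rw [hvals x hx y hy]
      exact (inter_facts (hidx x hx) (hidx y hy)).2.1 fun e => hne (hinj x hx y hy e).symm
    have hYsum : ∑ y ∈ Y, (nbSet Γ ν x ∩ nbSet Γ ν y).card = 1120 := by
      have e : ∀ y, (nbSet Γ ν x ∩ nbSet Γ ν y).card = ∑ l ∈ nbSet Γ ν x, if l ∈ nbSet Γ ν y then 1 else 0 :=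
        fun y => by rw [← Finset.card_filter, Finset.filter_mem_eq_inter]
      simp only [e]
      rw [Finset.sum_comm, Finset.sum_congr rfl (g := fun _ => 20) (fun l hl => ?_), Finset.sum_const, hS x hx, hc,
        smul_eq_mul]
      rw [← Finset.card_filter]
      have hadj : Γ.Adj x (ν l) := mem_nbSet.1 hl
      have h := card_split D (fun z => Γ.Adj x z ∧ Γ.Adj (ν l) z)
      rw [D.adj _ _ hadj, if_neg (fun h => hxa.2 h.1.symm),
        show (Finset.univ.filter fun m => Γ.Adj x (ν m) ∧ Γ.Adj (ν l) (ν m)) =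
          meetSet l ∩ lineSet (idx x hx) by
          rw [← hS x hx]; ext m; simp [meetSet, mem_nbSet, D.lines, and_comm],
        hm l (hS x hx ▸ hl)] at h
      have e' : Y.filter (fun y => l ∈ nbSet Γ ν y) =
          (farSet Γ a).filter fun z => Γ.Adj x z ∧ Γ.Adj (ν l) z := by
        ext z; simp [hY, mem_nbSet, Γ.adj_comm, and_assoc]
      rw [e']
      omega
    have hsub : Y ⊆ Z := by
      intro y hy
      by_contra hn20
      have hy' := Finset.mem_filter.1 hy
      have hne : y ≠ x := fun e => Γ.irrefl (e ▸ hy'.2 : Γ.Adj x x)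
      have h32 : (nbSet Γ ν x ∩ nbSet Γ ν y).card = 32 :=
        (hval y hy'.1 hne).resolve_left fun e => hn20 (Finset.mem_filter.2 ⟨hy'.1, e⟩)
      have hlow : ∀ z ∈ Y.erase y, 20 ≤ (nbSet Γ ν x ∩ nbSet Γ ν z).card := by
        intro z hz
        have hz' := Finset.mem_filter.1 (Finset.mem_of_mem_erase hz)
        rcases hval z hz'.1 (fun e => Γ.irrefl (e ▸ hz'.2 : Γ.Adj x x)) with e | e <;> omega
      have := Finset.card_nsmul_le_sum _ _ _ hlow
      rw [← Finset.add_sum_erase Y _ hy, h32] at hYsum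
      rw [Finset.card_erase_of_mem hy, hY56, smul_eq_mul] at this
      omega
    have hZ56 : Z.card = 56 := by
      obtain ⟨h1, -⟩ := hn x hx
      rw [← Finset.add_sum_erase _ _ hx, hx56] at h1
      have hZ' : Z = ((farSet Γ a).erase x).filter fun y => (nbSet Γ ν x ∩ nbSet Γ ν y).card = 20 := by
        rw [Finset.filter_erase, Finset.erase_eq_of_notMem]
        intro hmem
        have := (Finset.mem_filter.1 hmem).2
        omega
      rw [← Finset.sum_filter_add_sum_filter_not _ fun y => (nbSet Γ ν x ∩ nbSet Γ ν y).card = 20] at h1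
      rw [Finset.sum_congr rfl (g := fun _ => 20) (fun y hy => (Finset.mem_filter.1 hy).2),
        Finset.sum_congr rfl (g := fun _ => 32) (fun y hy => (hval y (Finset.mem_of_mem_erase (Finset.mem_filter.1 hy).1)
          (Finset.ne_of_mem_erase (Finset.mem_filter.1 hy).1)).resolve_left (Finset.mem_filter.1 hy).2),
        Finset.sum_const, Finset.sum_const, smul_eq_mul, smul_eq_mul, ← hZ'] at h1
      have h2 := Finset.card_filter_add_card_filter_not (s := (farSet Γ a).erase x)
        fun y => (nbSet Γ ν x ∩ nbSet Γ ν y).card = 20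
      rw [← hZ', Finset.card_erase_of_mem hx, card_farSet D] at h2
      omega
    have hYZ : Y = Z := Finset.eq_of_subset_of_card_le hsub (by rw [hY56, hZ56])
    intro y hy
    have := Finset.ext_iff.1 hYZ y
    simp only [hY, hZ, Finset.mem_filter, hy, true_and, hvals x hx y hy] at this
    exact this
  -- the numbering
  have hvx := vertices_ok
  simp only [Bool.and_eq_true, forBelow_iff, decide_eq_true_eq, beq_iff_eq, Bool.not_eq_true'] at hvx
  obtain ⟨⟨⟨⟨-, hnd⟩, hnear⟩, hfar⟩, h00⟩ := hvx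
  have hnd := CfsgLib.GraphPerm.nodup_of_noDup hnd
  rw [List.nodup_cons, List.nodup_append] at hnd
  obtain ⟨hnd0, hndN, hndF, hndNF⟩ := hnd
  let lab : Ω → Fin 275 := fun x =>
    if h : x ∈ farSet Γ a then ⟨farV (idx x h), (hfar _ (hidx x h)).1.1.1⟩
    else if h' : ∃ l, ν l = x then ⟨nearV h'.choose.val, (hnear _ h'.choose.2).1.1⟩ else 0
  have hl0 : lab a = 0 := by
    simp only [lab]
    rw [dif_neg (fun h => (mem_farSet.1 h).1 rfl), dif_neg (fun ⟨l, e⟩ => Γ.irrefl (e ▸ (D.range _).2 ⟨l, rfl⟩ : Γ.Adj a a))]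
  have hlν : ∀ l : Fin 112, (lab (ν l)).val = nearV l.val := by
    intro l
    simp only [lab]
    rw [dif_neg (fun h => (mem_farSet.1 h).2 ((D.range _).2 ⟨l, rfl⟩)), dif_pos ⟨l, rfl⟩]
    have h : ∃ m, ν m = ν l := ⟨l, rfl⟩
    show nearV h.choose.val = _
    rw [D.inj h.choose_spec]
  have hlf : ∀ x (h : x ∈ farSet Γ a), (lab x).val = farV (idx x h) := fun x h => by simp only [lab]; rw [dif_pos h]
  have cases3 : ∀ x, x = a ∨ (∃ l, ν l = x) ∨ x ∈ farSet Γ a := by
    intro x
    by_cases h1 : x = a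
    · exact Or.inl h1
    · by_cases h2 : Γ.Adj a x
      · exact Or.inr (Or.inl ((D.range x).1 h2))
      · exact Or.inr (Or.inr (mem_farSet.2 ⟨h1, h2⟩))
  have hlab : Function.Injective lab := by
    intro x y e
    have e' := congrArg Fin.val e
    have hN : ∀ l : Fin 112, nearV l.val ∈ (List.range 112).map nearV := fun l =>
      List.mem_map.2 ⟨l.val, List.mem_range.2 l.2, rfl⟩
    have hF : ∀ z (h : z ∈ farSet Γ a), farV (idx z h) ∈ (List.range 162).map farV := fun z h =>
      List.mem_map.2 ⟨_, List.mem_range.2 (hidx z h), rfl⟩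
    rcases cases3 x with rfl | ⟨l, rfl⟩ | hx <;> rcases cases3 y with rfl | ⟨m, rfl⟩ | hy
    · rfl
    · rw [hl0, hlν, Fin.val_zero] at e'; exact absurd (List.mem_append_left _ (e' ▸ hN m)) hnd0
    · rw [hl0, hlf y hy, Fin.val_zero] at e'; exact absurd (List.mem_append_right _ (e' ▸ hF y hy)) hnd0
    · rw [hl0, hlν, Fin.val_zero] at e'; exact absurd (List.mem_append_left _ (e' ▸ hN l)) hnd0
    · rw [hlν, hlν] at e'
      exact congrArg ν (Fin.ext (List.inj_on_of_nodup_map hndN (List.mem_range.2 l.2) (List.mem_range.2 m.2) e'))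
    · rw [hlν, hlf y hy] at e'; exact absurd e' (hndNF _ (hN l) _ (hF y hy))
    · rw [hl0, hlf x hx, Fin.val_zero] at e'; exact absurd (List.mem_append_right _ (e' ▸ hF x hx)) hnd0
    · rw [hlν, hlf x hx] at e'; exact absurd e'.symm (hndNF _ (hN m) _ (hF x hx))
    · rw [hlf x hx, hlf y hy] at e'
      exact hinj x hx y hy (List.inj_on_of_nodup_map hndF (List.mem_range.2 (hidx x hx))
        (List.mem_range.2 (hidx y hy)) e')
  refine ⟨Equiv.ofBijective lab ((Fintype.bijective_iff_injective_and_card lab).2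
    ⟨hlab, by rw [D.card, Fintype.card_fin]⟩), fun x y => ?_⟩
  show _ ↔ adjM (lab x).val (lab y).val = true
  have hSm : ∀ z (h : z ∈ farSet Γ a) (l : Fin 112), Γ.Adj z (ν l) ↔ (fam (idx z h)).testBit l.val = true := by
    intro z h l
    rw [← mem_nbSet (Γ := Γ) (ν := ν), hS z h]
    simp [lineSet]
  rcases cases3 x with rfl | ⟨l, rfl⟩ | hx <;> rcases cases3 y with rfl | ⟨m, rfl⟩ | hy
  · rw [hl0, Fin.val_zero, h00]; simp
  · rw [hl0, hlν, Fin.val_zero, (hnear m.1 m.2).1.2]; simp [(D.range _).2 ⟨m, rfl⟩]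
  · rw [hl0, hlf y hy, Fin.val_zero, (hfar _ (hidx y hy)).1.1.2]; simp [(mem_farSet.1 hy).2]
  · rw [hl0, hlν, Fin.val_zero, (hnear l.1 l.2).2]; simp [((D.range _).2 ⟨l, rfl⟩).symm]
  · rw [hlν, hlν, D.lines]
    have h := forBelow_iff.1 meet_ok l.1 l.2
    simp only [Bool.and_eq_true, forBelow_iff, beq_iff_eq] at h
    rw [(h.2 m.1 m.2).1.2]
  · rw [hlν, hlf y hy, Γ.adj_comm, hSm y hy, ((hfar _ (hidx y hy)).2 l.1 l.2).1]
  · rw [hl0, hlf x hx, Fin.val_zero, (hfar _ (hidx x hx)).1.2, Γ.adj_comm]; simp [(mem_farSet.1 hx).2]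
  · rw [hlν, hlf x hx, hSm x hx, ((hfar _ (hidx x hx)).2 m.1 m.2).2]
  · rw [hlf x hx, hlf y hy, hfar_adj x hx y hy, (inter_facts (hidx x hx) (hidx y hy)).2.2]
    simp

/-- The graph is that of McLaughlin. -/
theorem exists_equiv_model [Finite G] (D : LineGraphData Γ a ν)
    (hinv : ∀ (g : G) x y, Γ.Adj (g • x) (g • y) ↔ Γ.Adj x y)
    [IsSimpleGroup (MulAction.stabilizer G a)] (hA : 24 < Nat.card (MulAction.stabilizer G a))
    (htrans : ∀ x ∈ farSet Γ a, ∀ y ∈ farSet Γ a, ∃ g ∈ MulAction.stabilizer G a, g • x = y) :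
    ∃ φ : Ω ≃ Fin 275, ∀ x y, Γ.Adj x y ↔ adjF (φ x) (φ y) = true := by
  classical
  obtain ⟨x₀, hx₀⟩ : (farSet Γ a).Nonempty := Finset.card_pos.1 (by rw [card_farSet D]; norm_num)
  obtain ⟨k₀, hk₀, hS₀⟩ := exists_fam D hx₀
  obtain ⟨τ, hτ, hτ'⟩ := exists_tau (k₀ / 162) (by omega)
  set ν' : Fin 112 → Ω := ν ∘ τ.symm with hν'
  have D' : LineGraphData Γ a ν' :=
    { card := D.card, deg := D.deg, adj := D.adj, nadj := D.nadj
      inj := D.inj.comp τ.symm.injective
      range := fun z => (D.range z).trans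
        ⟨fun ⟨l, e⟩ => ⟨τ l, by simp [hν', e]⟩, fun ⟨l, e⟩ => ⟨τ.symm l, e⟩⟩
      lines := fun l m => (D.lines _ _).trans (by rw [← hτ (τ.symm l) (τ.symm m)]; simp) }
  obtain ⟨k₁, hk₁, hS₁⟩ := hτ' (k₀ % 162) (Nat.mod_lt _ (by norm_num))
  rw [Nat.div_add_mod k₀ 162, ← hS₀] at hS₁
  have hS₁' : nbSet Γ ν' x₀ = lineSet k₁ := by
    rw [← hS₁]
    ext l
    simp only [mem_nbSet, hν', Function.comp_apply, Finset.mem_image]
    exact ⟨fun h => ⟨_, h, Equiv.apply_symm_apply τ l⟩, by rintro ⟨m, h, rfl⟩; simpa using h⟩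
  refine exists_equiv_of_class D' ?_
  -- the stabiliser preserves the class
  set A := MulAction.stabilizer G a with hAdef
  have hfarmap : ∀ g : A, ∀ x ∈ farSet Γ a, g • x ∈ farSet Γ a := by
    rintro ⟨g, hg⟩ x hx
    rw [mem_farSet] at hx ⊢
    refine ⟨fun e => hx.1 ?_, fun e => hx.2 ?_⟩
    · show x = a
      have : g • x = g • a := e.trans hg.symm
      exact smul_left_cancel g this
    · rw [← hinv g, show g • a = a from hg]; exact e
  let C : Ω → Prop := fun x => ∃ k < 162, nbSet Γ ν' x = lineSet k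
  let good : ℕ → Prop := fun n => n = 20 ∨ n = 32 ∨ n = 56
  have hCgood : ∀ x ∈ farSet Γ a, ∀ y ∈ farSet Γ a, C x →
      (C y ↔ good (nbSet Γ ν' x ∩ nbSet Γ ν' y).card) := by
    rintro x - y hy ⟨k, hk, hx⟩
    constructor
    · rintro ⟨j, hj, hy'⟩
      rw [hx, hy', card_inter_lineSet]
      by_cases e : k = j
      · exact Or.inr (Or.inr ((inter_facts hk hj).1 e))
      · rcases (inter_facts hk hj).2.1 e with e' | e'
        exacts [Or.inl e', Or.inr (Or.inl e')]
    · intro hg
      obtain ⟨j, hj, hy'⟩ := exists_fam D' hy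
      refine ⟨j, ?_, hy'⟩
      by_contra hge
      obtain ⟨n1, n2, n3⟩ := not_good hk (not_lt.1 hge) hj
      rw [hx, hy'] at hg
      rcases hg with e | e | e
      exacts [n1 e, n2 e, n3 e]
  have hC₀ : C x₀ := ⟨k₁, hk₁, hS₁'⟩
  have hn : ∀ (g : A) x y, (nbSet Γ ν' (g • x) ∩ nbSet Γ ν' (g • y)).card = (nbSet Γ ν' x ∩ nbSet Γ ν' y).card :=
    fun g x y => card_inter_smul D' hinv (g := g.1) g.2 x y
  let H : Subgroup A :=
    { carrier := {g | C (g • x₀)}
      one_mem' := by simpa using hC₀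
      mul_mem' := fun {g h} hg hh => by
        rw [Set.mem_setOf_eq, mul_smul]
        refine (hCgood (g • x₀) (hfarmap g _ hx₀) _ (hfarmap g _ (hfarmap h _ hx₀)) hg).2 ?_
        rw [hn]
        exact (hCgood x₀ hx₀ _ (hfarmap h _ hx₀) hC₀).1 hh
      inv_mem' := fun {g} hg => by
        refine (hCgood x₀ hx₀ _ (hfarmap _ _ hx₀) hC₀).2 ?_
        rw [← hn g, smul_inv_smul, Finset.inter_comm]
        exact (hCgood x₀ hx₀ _ (hfarmap g _ hx₀) hC₀).1 hg }
  choose kk hkk hkS using fun g : A => exists_fam D' (hfarmap g x₀ hx₀)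
  have hH : H = ⊤ := by
    refine eq_top_of_injective (α := Fin 4) (by simp) hA
      (fun g => ⟨kk g / 162, by have := hkk g; omega⟩) fun g h e => ?_
    have e' : kk g / 162 = kk h / 162 := congrArg Fin.val e
    show C ((g⁻¹ * h) • x₀)
    rw [mul_smul]
    refine (hCgood x₀ hx₀ _ (hfarmap g⁻¹ _ (hfarmap h _ hx₀)) hC₀).2 ?_
    rw [← hn g, smul_inv_smul, hkS, hkS]
    obtain ⟨σ, -, hσ⟩ := exists_tau (kk g / 162) (by have := hkk g; omega)
    obtain ⟨i, hi, ei⟩ := hσ (kk g % 162) (Nat.mod_lt _ (by norm_num))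
    obtain ⟨j, hj, ej⟩ := hσ (kk h % 162) (Nat.mod_lt _ (by norm_num))
    rw [Nat.div_add_mod] at ei
    rw [e', Nat.div_add_mod] at ej
    rw [← Finset.card_image_of_injective _ σ.injective, Finset.image_inter _ _ σ.injective, ei, ej,
      card_inter_lineSet]
    by_cases e : i = j
    · exact Or.inr (Or.inr ((inter_facts hi hj).1 e))
    · rcases (inter_facts hi hj).2.1 e with e' | e'
      exacts [Or.inl e', Or.inr (Or.inl e')]
  intro x hx
  obtain ⟨g, hg, rfl⟩ := htrans x₀ hx₀ x hx
  have : (⟨g, hg⟩ : A) ∈ H := hH ▸ Subgroup.mem_top _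
  exact this

end graph

end CfsgLib.McLRec
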