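import Cfsg.Agent.RankThree.UFourLines
import Cfsg.Agent.RankThree.PackedDot
import Cfsg.Agent.GraphPerm.McLData

/-!
# The hemisystems of lines and their place in the graph of McLaughlin

There are 648 sets of lines meeting every pencil in exactly two lines, in four classes of 162; in each
class two members share 20 or 32 lines, and the first class is read off the graph.
-/

set_option autoImplicit false
set_option maxRecDepth 100000

namespace CfsgLib.McLRec

open Data
open CfsgLib.GraphPerm (tget forBelow forBelow_iff adjT noDup nodup_of_noDup)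

/-- A coded family member. -/
def fam (k : ℕ) : ℕ := (familyPack >>> (112 * k)) % 2 ^ 112

/-- The chunks of the certificate. -/
def decodeChunk (c : ℕ) : List ℕ := (List.range (c >>> 1400)).map fun i => (c >>> (14 * i)) % 16384

/-- All 112 bits. -/
def allLines : ℕ := 2 ^ 112 - 1

/-- A bit. -/
def bitB (m l : ℕ) : Bool := (m >>> l) % 2 == 1

/-- A line through a point. -/
def pen (p r : ℕ) : ℕ := (pencilPack >>> (36 * p + 9 * r)) % 512

/-- The ways of dividing four positions into two pairs, ordered. -/
def pat : ℕ → ℕ × ℕ × ℕ × ℕ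
  | 0 => (0, 1, 2, 3)
  | 1 => (0, 2, 1, 3)
  | 2 => (0, 3, 1, 2)
  | 3 => (1, 2, 0, 3)
  | 4 => (1, 3, 0, 2)
  | _ => (2, 3, 0, 1)

/-- The three positions besides one. -/
def others : ℕ → ℕ × ℕ × ℕ
  | 0 => (1, 2, 3)
  | 1 => (0, 2, 3)
  | 2 => (0, 1, 3)
  | _ => (0, 1, 2)

/-- Two given lines of a pencil are in the mask. -/
def twoIn (m p : ℕ) (t : ℕ × ℕ × ℕ × ℕ) : Bool :=
  decide (p < 280) && bitB m (pen p t.1) && bitB m (pen p t.2.1)

/-- The other two lines of the pencil. -/
def twoOther (p : ℕ) (t : ℕ × ℕ × ℕ × ℕ) : ℕ := (1 <<< pen p t.2.2.1) ||| (1 <<< pen p t.2.2.2)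

/-- Three given lines of a pencil are in the mask. -/
def threeIn (m p : ℕ) (t : ℕ × ℕ × ℕ) : Bool :=
  decide (p < 280) && bitB m (pen p t.1) && bitB m (pen p t.2.1) && bitB m (pen p t.2.2)

/-- Replay of the exhaustive search: `i` are the lines chosen, `o` those rejected. -/
def search : ℕ → ℕ → ℕ → List ℕ → Option (List ℕ)
  | 0, _, _, _ => none
  | _ + 1, _, _, [] => none
  | fuel + 1, i, o, x :: rest =>
    if x % 8 == 0 then
      if decide (x / 8 < 648) && (i ||| o == allLines) && (fam (x / 8) == i) then some rest else none
    else if x % 8 == 1 then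
      match search fuel (i ||| (1 <<< (x / 8))) o rest with
      | none => none
      | some r => search fuel i (o ||| (1 <<< (x / 8))) r
    else if x % 8 == 2 then
      if twoIn i (x / 8 / 6) (pat (x / 8 % 6)) then
        search fuel i (o ||| twoOther (x / 8 / 6) (pat (x / 8 % 6))) rest
      else none
    else if x % 8 == 3 then
      if twoIn o (x / 8 / 6) (pat (x / 8 % 6)) then
        search fuel (i ||| twoOther (x / 8 / 6) (pat (x / 8 % 6))) o rest
      else none
    else if x % 8 == 4 then
      if threeIn i (x / 8 / 4) (others (x / 8 % 4)) then some rest else none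
    else
      if threeIn o (x / 8 / 4) (others (x / 8 % 4)) then some rest else none

/-- The count of bits below `8 n`, by bytes. -/
def byteTab : ℕ :=
  (List.range 256).foldl (fun acc k => acc + ((List.range 8).countP k.testBit <<< (4 * k))) 0

/-- Number of bits. -/
def pcT : ℕ → ℕ → ℕ
  | 0, _ => 0
  | n + 1, x => (byteTab >>> (4 * (x % 256))) % 16 + pcT n (x >>> 8)

/-- The number of common lines of two members. -/
def interN (k j : ℕ) : ℕ := pcT 14 (fam k &&& fam j)

/-- The bits of a member. -/
def bitList (m : ℕ) : List ℕ := (List.range 112).map fun l => (m >>> l) % 2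

/-- A member of the first class with seven bits a line. -/
def fwdRow (k : ℕ) : ℕ := (famFwd >>> (784 * k)) % 2 ^ 784

/-- A member of the first or third class with seven bits a line, reversed. -/
def revRow (j : ℕ) : ℕ := (famRev >>> (784 * j)) % 2 ^ 784

/-- The index of a reversed row. -/
def revIdx (j : ℕ) : ℕ := if j < 162 then j else 162 + j

/-- The number of common lines, from one product. -/
def interP (k j : ℕ) : ℕ := ((fwdRow k * revRow j) >>> (7 * 111)) % 2 ^ 7

/-- The row of meeting lines. -/
def meetRow (l : ℕ) : ℕ := (meetPack >>> (112 * l)) % 2 ^ 112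

/-- The vertex of a line. -/
def nearV (l : ℕ) : ℕ := tget nearTab l

/-- The vertex of a member of the first class. -/
def farV (k : ℕ) : ℕ := tget farTab k

/-- Adjacency in the graph. -/
def adjM (u v : ℕ) : Bool := adjT 275 GraphPerm.McLModel.graph u v

/-! ### Checks -/

theorem byte_ok : forBelow 256 (fun k => (byteTab >>> (4 * k)) % 16 == (List.range 8).countP k.testBit) = true := by
  decide +kernel

theorem search_ok : search 400 0 0 (searchCert.flatMap decodeChunk) = some [] := by
  decide +kernel

theorem fam_complement : forBelow 162 (fun k =>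
    fam (162 + k) == fam k ^^^ allLines && fam (486 + k) == fam (324 + k) ^^^ allLines &&
      pcT 14 (fam k) == 56 && decide (fam k < 2 ^ 112)) = true := by
  decide +kernel

theorem inter_okP : forBelow 162 (fun k =>
    (forBelow (k + 1) fun j =>
      let n := interP k j
      (if j == k then n == 56 else n == 20 || n == 32) && (adjM (farV k) (farV j) == (n == 20)) &&
        (adjM (farV j) (farV k) == (n == 20))) &&
    forBelow 162 fun j =>
      let n := interP k (162 + j)
      n == 16 || n == 28 || n == 40) = true := by
  decide +kernel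

theorem spread_ok : forBelow 324 (fun j =>
    revRow j == ofDigs (2 ^ 7) (bitList (fam (revIdx j))).reverse &&
      (decide (162 ≤ j) || fwdRow j == ofDigs (2 ^ 7) (bitList (fam j)))) = true := by
  decide +kernel

theorem meet_ok : forBelow 112 (fun l =>
    pcT 14 (meetRow l) == 30 && forBelow 112 fun m =>
      ((meetRow l).testBit m == gAdjN l m) && (adjM (nearV l) (nearV m) == gAdjN l m) &&
        (decide (m ≤ l) || pcT 14 (meetRow l &&& meetRow m) == if gAdjN l m then 2 else 10)) = true := by
  decide +kernel

theorem vertices_ok :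
    (forBelow 275 (fun v => v == 0 || ((List.range 112).map nearV).contains v ||
      ((List.range 162).map farV).contains v) &&
    noDup (0 :: ((List.range 112).map nearV ++ (List.range 162).map farV)) &&
    (forBelow 112 fun l => decide (nearV l < 275) && adjM 0 (nearV l) && adjM (nearV l) 0) &&
    (forBelow 162 fun k => decide (farV k < 275) && !(adjM 0 (farV k)) && !(adjM (farV k) 0) &&
      forBelow 112 fun l => adjM (nearV l) (farV k) == (fam k).testBit l &&
        adjM (farV k) (nearV l) == (fam k).testBit l) && !(adjM 0 0)) = true := by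
  decide +kernel

theorem inner_ok : forBelow 162 (fun k => forBelow 112 fun l =>
    !((fam k).testBit l) || pcT 14 (meetRow l &&& fam k) == 10) = true := by
  decide +kernel

theorem tau_ok : forBelow 4 (fun c =>
    let t := tauTabs.getD c 0
    let ix := tauIdx.getD c 0
    (forBelow 112 fun l => decide (tget t l < 112) && forBelow 112 fun m =>
      gAdjN (tget t l) (tget t m) == gAdjN l m) &&
    noDup ((List.range 112).map (tget t)) &&
    forBelow 162 fun k => decide (tget ix k < 162) && forBelow 112 fun l =>
      (fam (tget ix k)).testBit (tget t l) == (fam (162 * c + k)).testBit l) = true := by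
  decide +kernel

theorem pencil_pairs : forBelow 280 (fun p => noDup (pencil p) && (pencil p).length == 4 &&
    (pencil p).all fun l => decide (l < 112) && (pencil p).all fun m => l == m || gAdjN l m) = true := by
  decide +kernel

/-! ### Soundness of the search -/

theorem bitB_eq (m l : ℕ) : bitB m l = m.testBit l := by
  rw [bitB, Nat.testBit_eq_decide_div_mod_eq, Nat.shiftRight_eq_div_pow]
  rcases Nat.mod_two_eq_zero_or_one (m / 2 ^ l) with h | h <;> simp [h]

theorem pencil_eq (p : ℕ) : pencil p = [pen p 0, pen p 1, pen p 2, pen p 3] := rfl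

theorem two_of_count {s : ℕ → Bool} (h : [s 0, s 1, s 2, s 3].countP id = 2) (m : ℕ) (v : Bool)
    (ha : s (pat m).1 = v) (hb : s (pat m).2.1 = v) : s (pat m).2.2.1 = !v ∧ s (pat m).2.2.2 = !v := by
  revert ha hb
  rcases m with _ | _ | _ | _ | _ | m <;> simp only [pat] <;> revert h <;>
    generalize s 0 = a <;> generalize s 1 = b <;> generalize s 2 = c <;> generalize s 3 = d <;>
    revert a b c d v <;> decide

theorem three_of_count {s : ℕ → Bool} (h : [s 0, s 1, s 2, s 3].countP id = 2) (m : ℕ) (v : Bool)
    (ha : s (others m).1 = v) (hb : s (others m).2.1 = v) (hc : s (others m).2.2 = v) : False := by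
  revert ha hb hc
  rcases m with _ | _ | _ | m <;> simp only [others] <;> revert h <;>
    generalize s 0 = a <;> generalize s 1 = b <;> generalize s 2 = c <;> generalize s 3 = d <;>
    revert a b c d v <;> decide

theorem pat_lt : ∀ m, (pat m).1 < 4 ∧ (pat m).2.1 < 4 ∧ (pat m).2.2.1 < 4 ∧ (pat m).2.2.2 < 4 := by
  intro m; rcases m with _ | _ | _ | _ | _ | m <;> simp [pat]

theorem others_lt : ∀ m, (others m).1 < 4 ∧ (others m).2.1 < 4 ∧ (others m).2.2 < 4 := by
  intro m; rcases m with _ | _ | _ | m <;> simp [others]

/-- Soundness: a set meeting each pencil twice is a listed one. -/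
theorem search_sound {S : ℕ → Bool} (hS : ∀ p < 280, (pencil p).countP S = 2) :
    ∀ (fuel i o : ℕ) (cs r : List ℕ), search fuel i o cs = some r →
      (∀ l, i.testBit l = true → l < 112 → S l = true) → (∀ l, o.testBit l = true → l < 112 → S l = false) →
        ∃ k < 648, ∀ l < 112, (fam k).testBit l = S l := by
  have hcount : ∀ p < 280, [S (pen p 0), S (pen p 1), S (pen p 2), S (pen p 3)].countP id = 2 := by
    intro p hp
    have := hS p hp
    rw [pencil_eq] at this
    simpa [List.countP_cons] using this
  have hlt : ∀ p < 280, ∀ r < 4, pen p r < 112 := by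
    intro p hp r hr
    have h := forBelow_iff.1 pencil_pairs p hp
    simp only [Bool.and_eq_true, List.all_eq_true, decide_eq_true_eq] at h
    refine (h.2 _ ?_).1
    rw [pencil_eq]
    interval_cases r <;> simp
  intro fuel
  induction fuel with
  | zero => intro i o cs r h; simp [search] at h
  | succ fuel ih =>
    intro i o cs r h hi ho
    cases cs with
    | nil => simp [search] at h
    | cons x rest =>
      rw [search.eq_def] at h
      simp only at h
      split_ifs at h with h0 hleaf h1 h2 htwo h3 htwo' h4 hthree hthree'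
      · simp only [Bool.and_eq_true, decide_eq_true_eq, beq_iff_eq] at hleaf
        obtain ⟨⟨hk, hfull⟩, he⟩ := hleaf
        refine ⟨x / 8, hk, fun l hl => ?_⟩
        rw [he]
        have hb : (i ||| o).testBit l = true := by
          rw [hfull, allLines, Nat.testBit_two_pow_sub_one]; simpa using hl
        rw [Nat.testBit_or, Bool.or_eq_true] at hb
        rcases hb with hb | hb
        · rw [hb, hi l hb hl]
        · rw [ho l hb hl]
          by_contra hne
          rw [Bool.not_eq_false] at hne
          exact Bool.false_ne_true ((ho l hb hl).symm.trans (hi l hne hl))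
      · rcases hs : search fuel (i ||| (1 <<< (x / 8))) o rest with _ | r1
        · simp [hs] at h
        · simp only [hs] at h
          have hadd : ∀ (m : ℕ) (v : Bool), (∀ l, m.testBit l = true → l < 112 → S l = v) →
              (x / 8 < 112 → S (x / 8) = v) →
                ∀ l, (m ||| (1 <<< (x / 8))).testBit l = true → l < 112 → S l = v := by
            intro m v hm hx l hb hl
            rw [Nat.testBit_or, one_shiftLeft_testBit, Bool.or_eq_true, decide_eq_true_eq] at hb
            rcases hb with hb | rfl
            exacts [hm l hb hl, hx hl]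
          by_cases hx112 : x / 8 < 112
          · rcases hsx : S (x / 8) with _ | _
            · exact ih _ _ _ _ h hi (hadd o false ho fun _ => hsx)
            · exact ih _ _ _ _ hs (hadd i true hi fun _ => hsx) ho
          · exact ih _ _ _ _ h hi (hadd o false ho fun hh => absurd hh hx112)
      · simp only [twoIn, Bool.and_eq_true, decide_eq_true_eq, bitB_eq] at htwo
        obtain ⟨⟨hp, ha⟩, hb⟩ := htwo
        obtain ⟨q1, q2, q3, q4⟩ := pat_lt (x / 8 % 6)
        obtain ⟨hc, hd⟩ := two_of_count (s := fun r => S (pen _ r)) (hcount _ hp) _ true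
          (hi _ ha (hlt _ hp _ q1)) (hi _ hb (hlt _ hp _ q2))
        refine ih _ _ _ _ h hi fun l hl hl' => ?_
        simp only [twoOther, Nat.testBit_or, one_shiftLeft_testBit, Bool.or_eq_true, decide_eq_true_eq] at hl
        rcases hl with hl | rfl | rfl
        exacts [ho l hl hl', hc, hd]
      · simp only [twoIn, Bool.and_eq_true, decide_eq_true_eq, bitB_eq] at htwo'
        obtain ⟨⟨hp, ha⟩, hb⟩ := htwo'
        obtain ⟨q1, q2, q3, q4⟩ := pat_lt (x / 8 % 6)
        obtain ⟨hc, hd⟩ := two_of_count (s := fun r => S (pen _ r)) (hcount _ hp) _ false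
          (ho _ ha (hlt _ hp _ q1)) (ho _ hb (hlt _ hp _ q2))
        refine ih _ _ _ _ h (fun l hl hl' => ?_) ho
        simp only [twoOther, Nat.testBit_or, one_shiftLeft_testBit, Bool.or_eq_true, decide_eq_true_eq] at hl
        rcases hl with hl | rfl | rfl
        exacts [hi l hl hl', hc, hd]
      · simp only [threeIn, Bool.and_eq_true, decide_eq_true_eq, bitB_eq] at hthree
        obtain ⟨⟨⟨hp, ha⟩, hb⟩, hc⟩ := hthree
        obtain ⟨q1, q2, q3⟩ := others_lt (x / 8 % 4)
        exact (three_of_count (s := fun r => S (pen _ r)) (hcount _ hp) _ true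
          (hi _ ha (hlt _ hp _ q1)) (hi _ hb (hlt _ hp _ q2)) (hi _ hc (hlt _ hp _ q3))).elim
      · simp only [threeIn, Bool.and_eq_true, decide_eq_true_eq, bitB_eq] at hthree'
        obtain ⟨⟨⟨hp, ha⟩, hb⟩, hc⟩ := hthree'
        obtain ⟨q1, q2, q3⟩ := others_lt (x / 8 % 4)
        exact (three_of_count (s := fun r => S (pen _ r)) (hcount _ hp) _ false
          (ho _ ha (hlt _ hp _ q1)) (ho _ hb (hlt _ hp _ q2)) (ho _ hc (hlt _ hp _ q3))).elim

theorem hemisystem_mem {S : ℕ → Bool} (hS : ∀ p < 280, (pencil p).countP S = 2) :
    ∃ k < 648, ∀ l < 112, (fam k).testBit l = S l :=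
  search_sound hS 400 0 0 _ [] search_ok (by simp) (by simp)

theorem pcT_eq : ∀ n x, pcT n x = (List.range (8 * n)).countP x.testBit
  | 0, x => rfl
  | n + 1, x => by
    have h := forBelow_iff.1 byte_ok (x % 256) (Nat.mod_lt _ (by norm_num))
    rw [beq_iff_eq] at h
    rw [pcT, h, pcT_eq n, show 8 * (n + 1) = 8 + 8 * n by ring, List.range_add, List.countP_append,
      List.countP_map]
    congr 1
    · refine List.countP_congr fun l hl => ?_
      rw [show (256 : ℕ) = 2 ^ 8 from rfl, Nat.testBit_mod_two_pow]
      simp [List.mem_range.1 hl]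
    · refine List.countP_congr fun l _ => ?_
      simp [Nat.testBit_shiftRight]

theorem dotList_map {α : Type*} (f g : α → ℕ) (hf : ∀ x, f x ≤ 1) (hg : ∀ x, g x ≤ 1) : ∀ L : List α,
    dotList (L.map f) (L.map g) = L.countP fun x => f x == 1 && g x == 1
  | [] => rfl
  | x :: L => by
    simp only [List.map_cons, dotList, dotList_map f g hf hg L, List.countP_cons]
    have := hf x; have := hg x
    interval_cases f x <;> interval_cases g x <;> simp <;> omega

theorem interP_eq {k j : ℕ} (hk : k < 162) (hj : j < 324) : interP k j = interN k (revIdx j) := by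
  have h1 := forBelow_iff.1 spread_ok k (by omega)
  have h2 := forBelow_iff.1 spread_ok j hj
  simp only [Bool.and_eq_true, beq_iff_eq, Bool.or_eq_true, decide_eq_true_eq] at h1 h2
  have hlen : ∀ m, (bitList m).length = 111 + 1 := fun m => by simp [bitList]
  have hle : ∀ m, ∀ a ∈ bitList m, a ≤ 1 := fun m a ha => by
    simp only [bitList, List.mem_map] at ha
    obtain ⟨l, -, rfl⟩ := ha
    omega
  rw [interP, h1.2.resolve_left (by omega), h2.1,
    dotList_eq_mid (hlen _) (hlen _) (hle _) (hle _) (by norm_num), interN, pcT_eq, bitList, bitList,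
    dotList_map _ _ (fun x => by omega) (fun x => by omega)]
  refine List.countP_congr fun l _ => ?_
  rw [Nat.testBit_and, ← bitB_eq, ← bitB_eq]
  rfl

theorem inter_ok : forBelow 162 (fun k =>
    (forBelow (k + 1) fun j =>
      let n := interN k j
      (if j == k then n == 56 else n == 20 || n == 32) && (adjM (farV k) (farV j) == (n == 20)) &&
        (adjM (farV j) (farV k) == (n == 20))) &&
    forBelow 162 fun j =>
      let n := interN k (324 + j)
      n == 16 || n == 28 || n == 40) = true := by
  rw [forBelow_iff]
  intro k hk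
  have h := forBelow_iff.1 inter_okP k hk
  rw [Bool.and_eq_true, forBelow_iff, forBelow_iff] at h ⊢
  refine ⟨fun j hj => ?_, fun j hj => ?_⟩
  · have := h.1 j hj
    rwa [interP_eq hk (by omega), revIdx, if_pos (by omega)] at this
  · have := h.2 j hj
    rwa [interP_eq hk (by omega), revIdx, if_neg (by omega), show 162 + (162 + j) = 324 + j by omega] at this

end CfsgLib.McLRec
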