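import Cfsg.Agent.RankThree.UFourLines
import Cfsg.Agent.Forms4.UnitarySimple

/-!
# Subgroups of index 112 and invariant graphs on the lines of U(4,3)
-/

set_option autoImplicit false
set_option maxRecDepth 100000

namespace CfsgLib.McLRec

open Matrix CfsgLib.UThree CfsgLib.UFourThree Data
open CfsgLib.GraphPerm (tget forBelow forBelow_iff)
open Equiv (Perm)

/-- Upper unitriangular. -/
def IsUni {F : Type*} [Zero F] [One F] (X : Matrix (Fin 4) (Fin 4) F) : Prop :=
  ∀ i j, j ≤ i → X i j = if i = j then 1 else 0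

theorem IsUni.mul {F : Type*} [CommRing F] {X Y : Matrix (Fin 4) (Fin 4) F} (hX : IsUni X) (hY : IsUni Y) :
    IsUni (X * Y) := by
  intro i j hij
  rw [Matrix.mul_apply]
  rcases hij.eq_or_lt with rfl | hlt
  · rw [Finset.sum_eq_single j (fun k _ hk => ?_) (by simp), hX j j le_rfl, hY j j le_rfl, if_pos rfl,
      one_mul]
    rcases lt_or_gt_of_ne hk with h | h
    · rw [hX j k h.le, if_neg h.ne', zero_mul]
    · rw [hY k j h.le, if_neg h.ne', mul_zero]
  · rw [if_neg hlt.ne']
    refine Finset.sum_eq_zero fun k _ => ?_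
    rcases lt_or_ge k i with h | h
    · rw [hX i k h.le, if_neg h.ne', zero_mul]
    · rw [hY k j (hij.trans h), if_neg (hlt.trans_le h).ne', mul_zero]

theorem IsUni.pow_nine {F : Type*} [Field F] [CharP F 3] {X : Matrix (Fin 4) (Fin 4) F} (hX : IsUni X) :
    X ^ 9 = 1 := by
  haveI : Fact (Nat.Prime 3) := ⟨by norm_num⟩
  have hN : ∀ i j, j ≤ i → (X - 1) i j = 0 := fun i j h => by
    rw [Matrix.sub_apply, hX i j h, Matrix.one_apply, sub_self]
  have h4 : (X - 1) ^ 4 = 0 := by
    have e : ∀ A B : Matrix (Fin 4) (Fin 4) F, ∀ a b : ℕ,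
        (∀ i j : Fin 4, j.val < i.val + a → A i j = 0) → (∀ i j : Fin 4, j.val < i.val + b → B i j = 0) →
          ∀ i j : Fin 4, j.val < i.val + (a + b) → (A * B) i j = 0 := by
      intro A B a b hA hB i j hij
      rw [Matrix.mul_apply]
      refine Finset.sum_eq_zero fun k _ => ?_
      rcases Nat.lt_or_ge k.val (i.val + a) with h | h
      · rw [hA i k h, zero_mul]
      · rw [hB k j (by omega), mul_zero]
    have h1 : ∀ i j : Fin 4, j.val < i.val + 1 → (X - 1) i j = 0 := fun i j h =>
      hN i j (Fin.le_def.2 (by omega))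
    have h2 := e _ _ 1 1 h1 h1
    ext i j
    rw [show (X - 1) ^ 4 = ((X - 1) * (X - 1)) * ((X - 1) * (X - 1)) by rw [← pow_two, ← pow_two, ← pow_mul],
      e _ _ 2 2 h2 h2 i j (by omega), Matrix.zero_apply]
  have h := sub_pow_char_pow_of_commute (p := 3) (n := 2) (Commute.one_right X)
  rw [one_pow, show (3 : ℕ) ^ 2 = 4 + 5 from rfl, pow_add, h4, zero_mul] at h
  exact sub_eq_zero.1 h.symm

section concrete

variable {F : Type*} [Field F] [CharP F 3] {ι : F} (hι : ι ^ 2 = -1)
  [Fintype F] (hF : Fintype.card F = 9)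
include hι hF

/-- The action of the simple group on lines. -/
noncomputable def psuLines : Cfsg.PSU 4 F 3 →* Perm (Fin 112) := lineHom.comp (psuPerm hι hF)

/-- The action of the simple group on points, as permutations. -/
noncomputable def psuPoints : Cfsg.PSU 4 F 3 →* Perm (Fin 280) :=
  perpAut.subtype.comp (psuPerm hι hF)

theorem exists_genPSU (k : Fin 7) : ∃ g : Cfsg.SU 4 F 3,
    suMat g = mat4 ι (matC (genCodes.getD k 0)) ∧
      (∀ i : Fin 280, (psuPoints hι hF (QuotientGroup.mk g) i).val = tget (ptTabs.getD k 0) i) ∧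
        ∀ l : Fin 112, (psuLines hι hF (QuotientGroup.mk g) l).val = tget (lineTabs.getD k 0) l :=
  exists_gen hι hF k

theorem points_transitive (x : Fin 280) : ∃ g, psuPoints hι hF g 0 = x := by
  have h := trees_ok
  simp only [Bool.and_eq_true, forBelow_iff, List.contains_iff_mem] at h
  obtain ⟨σ, ⟨g, rfl⟩, e⟩ := treePts_reach (S := (psuPoints hι hF).range) (fun k hk => by
      obtain ⟨g, -, hp, -⟩ := exists_genPSU hι hF ⟨k, hk⟩
      exact ⟨_, ⟨_, rfl⟩, hp⟩) 0 h.1.1.1.1.1.1.1 x.val (h.1.1.1.1.1.1.2 x.1 x.2)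
  exact ⟨g, Fin.ext e⟩

theorem lines_transitive (x : Fin 112) : ∃ g, psuLines hι hF g 0 = x := by
  have h := trees_ok
  simp only [Bool.and_eq_true, forBelow_iff, List.contains_iff_mem] at h
  obtain ⟨σ, ⟨g, rfl⟩, e⟩ := treePts_reach (S := (psuLines hι hF).range) (fun k hk => by
      obtain ⟨g, -, -, hl⟩ := exists_genPSU hι hF ⟨k, hk⟩
      exact ⟨_, ⟨_, rfl⟩, hl⟩) 0 h.1.1.1.1.1.2 x.val (h.1.1.1.1.2 x.1 x.2)
  exact ⟨g, Fin.ext e⟩

/-- A group of exponent nine with the orbits of the unipotent group. -/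
theorem exists_unipotent : ∃ U : Subgroup (Cfsg.PSU 4 F 3), IsPGroup 3 U ∧
    (∀ u ∈ U, psuLines hι hF u 0 = 0) ∧
    ∀ k : Fin 4, ∀ x y : Fin 112, x.val ∈ uOrb k → y.val ∈ uOrb k →
      ∃ u ∈ U, psuLines hι hF u x = y := by
  classical
  choose g hgm _ hgl using fun k : Fin 7 => exists_genPSU hι hF k
  have hf := flag_ok
  simp only [Bool.and_eq_true, beq_iff_eq, forBelow_iff, Bool.or_eq_true, decide_eq_true_eq] at hf
  obtain ⟨hTT, huni⟩ := hf
  set T := mat4 ι (matC flagBasis)
  set T' := mat4 ι (matC flagInv)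
  have hT : T * T' = 1 := by rw [← mat4_mul hι, hTT, mat4_one]
  have hT' : T' * T = 1 := mul_eq_one_comm.1 hT
  let U₀ : Subgroup (Cfsg.SU 4 F 3) := Subgroup.closure {u | ∃ k : Fin 7, k.val < 6 ∧ g k = u}
  have hpow : ∀ u ∈ U₀, u ^ 9 = 1 := by
    have hU : ∀ u ∈ U₀, IsUni (T' * suMat u * T) := by
      intro u hu
      rw [← Subgroup.mem_toSubmonoid, Subgroup.closure_toSubmonoid_of_finite] at hu
      induction hu using Submonoid.closure_induction with
      | mem u hu =>
        obtain ⟨k, hk, rfl⟩ := hu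
        intro i j hij
        have h := (huni k.1 hk i.1 i.2 j.1 j.2).resolve_left (Nat.not_lt.2 (Fin.le_def.1 hij))
        rw [hgm, ← mat4_mul hι, ← mat4_mul hι]
        show val9 ι _ = _
        rw [h]
        simp only [Fin.val_inj]
        split <;> simp [val9_one, val9_zero]
      | one =>
        intro i j _
        rw [map_one, Matrix.mul_one, hT', Matrix.one_apply]
      | mul u v _ _ hu hv =>
        have e : T' * suMat (u * v) * T = (T' * suMat u * T) * (T' * suMat v * T) := by
          simp only [map_mul, Matrix.mul_assoc]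
          rw [← Matrix.mul_assoc T T', hT, Matrix.one_mul]
        rw [e]
        exact hu.mul hv
    intro u hu
    refine Subtype.ext (Subtype.ext ?_)
    show suMat (u ^ 9) = suMat (1 : Cfsg.SU 4 F 3)
    have hP := (hU u hu).pow_nine
    have hc : ∀ n : ℕ, (T' * suMat u * T) ^ n = T' * suMat (u ^ n) * T := by
      intro n
      induction n with
      | zero => rw [pow_zero, pow_zero, map_one, Matrix.mul_one, hT']
      | succ n ih =>
        rw [pow_succ, ih, pow_succ u, map_mul]
        simp only [Matrix.mul_assoc]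
        rw [← Matrix.mul_assoc T T', hT, Matrix.one_mul]
    rw [hc] at hP
    calc suMat (u ^ 9) = T * (T' * suMat (u ^ 9) * T) * T' := by
          rw [Matrix.mul_assoc T' _ T, ← Matrix.mul_assoc T T', hT, Matrix.one_mul, Matrix.mul_assoc, hT,
            Matrix.mul_one]
      _ = suMat (1 : Cfsg.SU 4 F 3) := by rw [hP, Matrix.mul_one, hT, map_one]
  refine ⟨U₀.map (QuotientGroup.mk' _), ?_, ?_, ?_⟩
  · rintro ⟨_, u, hu, rfl⟩
    refine ⟨2, Subtype.ext ?_⟩
    rw [Subgroup.coe_pow, ← map_pow, show (3 : ℕ) ^ 2 = 9 from rfl, hpow u hu, map_one, Subgroup.coe_one]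
  · have hfix : ∀ k : Fin 7, k.val < 6 → tget (lineTabs.getD k 0) 0 = 0 := by decide +kernel
    have hle : U₀ ≤ (MulAction.stabilizer (Perm (Fin 112)) (0 : Fin 112)).comap
        ((psuLines hι hF).comp (QuotientGroup.mk' _)) := by
      rw [Subgroup.closure_le]
      rintro _ ⟨k, hk, rfl⟩
      exact Fin.ext ((hgl k 0).trans (hfix k hk))
    rintro _ ⟨u, hu, rfl⟩
    exact hle hu
  · have htabs : ∀ k < uTabsLine.length, ∃ σ ∈ (U₀.map (QuotientGroup.mk' _)).map (psuLines hι hF),
        ∀ x : Fin 112, (σ x).val = tget (uTabsLine.getD k 0) x.val := by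
      intro k hk
      have hlen : uTabsLine.length = 6 := rfl
      rw [hlen] at hk
      refine ⟨_, ⟨_, ⟨g ⟨k, by omega⟩, Subgroup.subset_closure ⟨⟨k, by omega⟩, hk, rfl⟩, rfl⟩, rfl⟩,
        fun x => ?_⟩
      rw [show uTabsLine.getD k 0 = lineTabs.getD k 0 by
        simp [uTabsLine, List.getD, List.getElem?_take, hk]]
      exact hgl ⟨k, by omega⟩ x
    have h := trees_ok
    simp only [Bool.and_eq_true] at h
    have hlt : ∀ k : Fin 4, uRep k < 112 := by decide
    have key : ∀ k : Fin 4, ∀ x : Fin 112, x.val ∈ uOrb k →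
        ∃ u ∈ U₀.map (QuotientGroup.mk' _), psuLines hι hF u ⟨uRep k, hlt k⟩ = x := by
      intro k x hx
      have hex : ∃ σ ∈ (U₀.map (QuotientGroup.mk' _)).map (psuLines hι hF),
          (σ ⟨uRep k, hlt k⟩).val = x.val := by
        fin_cases k
        · exact treePts_reach htabs ⟨_, hlt 0⟩ h.1.1.1.2 _ hx
        · exact treePts_reach htabs ⟨_, hlt 1⟩ h.1.1.2 _ hx
        · exact treePts_reach htabs ⟨_, hlt 2⟩ h.1.2 _ hx
        · exact treePts_reach htabs ⟨_, hlt 3⟩ h.2 _ hx
      obtain ⟨σ, ⟨u, hu, rfl⟩, e⟩ := hex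
      exact ⟨u, hu, Fin.ext e⟩
    intro k x y hx hy
    obtain ⟨u, hu, rfl⟩ := key k x hx
    obtain ⟨v, hv, rfl⟩ := key k y hy
    exact ⟨v * u⁻¹, mul_mem hv (inv_mem hu), by
      rw [map_mul, map_inv, Equiv.Perm.mul_apply, Equiv.Perm.coe_inv, Equiv.symm_apply_apply]⟩

omit hι hF in
theorem uOrb_cover (x : Fin 112) : ∃ k : Fin 4, x.val ∈ uOrb k := by
  have h := uOrb_ok
  simp only [Bool.and_eq_true, forBelow_iff, beq_iff_eq] at h
  obtain ⟨k, hk⟩ := List.length_eq_one_iff.1 (h.1.1.1.1.1 x.1 x.2)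
  have : k ∈ (List.finRange 4).filter fun k => (uOrb k).contains x.1 := by rw [hk]; simp
  exact ⟨k, List.contains_iff_mem.1 (List.mem_filter.1 this).2⟩

omit hι hF in
theorem uOrb_facts (x : Fin 112) {k : Fin 4} (hx : x.val ∈ uOrb k) :
    gAdjN (0 : Fin 112) x = (k == 1 || k == 2) := by
  have h := uOrb_ok
  simp only [Bool.and_eq_true, List.all_eq_true, decide_eq_true_eq, beq_iff_eq] at h
  exact (h.1.1.1.2 k (List.mem_finRange k) x.val hx).2

/-- A subgroup containing the unipotent group and of index 112 fixes the base line. -/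
theorem fixes_zero {H U : Subgroup (Cfsg.PSU 4 F 3)} (hU : U ≤ H)
    (horb : ∀ k : Fin 4, ∀ x y : Fin 112, x.val ∈ uOrb k → y.val ∈ uOrb k →
      ∃ u ∈ U, psuLines hι hF u x = y)
    (hH : H.index = 112) : H = (MulAction.stabilizer (Perm (Fin 112)) (0 : Fin 112)).comap (psuLines hι hF) := by
  classical
  have hidx : ((MulAction.stabilizer (Perm (Fin 112)) (0 : Fin 112)).comap (psuLines hι hF)).index = 112 := by
    rw [index_comap_stabilizer _ _ (lines_transitive hι hF), Nat.card_eq_fintype_card, Fintype.card_fin]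
  have hcardH : Nat.card H = 29160 := by
    have := H.index_mul_card
    rw [hH, UFourThree.card_eq hι hF] at this
    omega
  letI : MulAction (Cfsg.PSU 4 F 3) (Fin 112) := MulAction.compHom _ (psuLines hι hF)
  set O := MulAction.orbit H (0 : Fin 112) with hO
  have hblock : ∀ k : Fin 4, ∀ x y : Fin 112, x.val ∈ uOrb k → y.val ∈ uOrb k → x ∈ O → y ∈ O := by
    intro k x y hx hy hxO
    obtain ⟨u, hu, rfl⟩ := horb k x y hx hy
    obtain ⟨h, rfl⟩ := hxO
    exact ⟨(⟨u, hU hu⟩ : H) * h, mul_smul _ _ _⟩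
  have hrep : ∀ k : Fin 4, ∃ x : Fin 112, x.val ∈ uOrb k ∧ x.val = uRep k := by decide +kernel
  choose r hr hrv using hrep
  have h0k : (0 : Fin 112).val ∈ uOrb 0 := by decide +kernel
  set K := (Finset.univ : Finset (Fin 4)).filter fun k => r k ∈ O with hK
  have hOeq : O.toFinset = K.biUnion fun k => Finset.univ.filter fun x : Fin 112 => x.val ∈ uOrb k := by
    ext x
    simp only [Set.mem_toFinset, Finset.mem_biUnion, Finset.mem_filter, Finset.mem_univ, true_and, hK]
    constructor
    · intro hx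
      obtain ⟨k, hk⟩ := uOrb_cover x
      exact ⟨k, hblock k x (r k) hk (hr k) hx, hk⟩
    · rintro ⟨k, hk, hx⟩
      exact hblock k (r k) x (hr k) hx hk
  have h0K : (0 : Fin 4) ∈ K := by
    simp only [hK, Finset.mem_filter, Finset.mem_univ, true_and]
    exact hblock 0 0 (r 0) h0k (hr 0) (MulAction.mem_orbit_self _)
  have hdvd : O.toFinset.card ∣ 29160 := by
    rw [← Set.ncard_eq_toFinset_card', ← MulAction.index_stabilizer, ← hcardH]
    exact Subgroup.index_dvd_card _
  rw [hOeq] at hdvd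
  have hcases : ∀ K : Finset (Fin 4), 0 ∈ K →
      (K.biUnion fun k => Finset.univ.filter fun x : Fin 112 => x.val ∈ uOrb k).card ∣ 29160 →
        K = {0} ∨ K = {0, 1} := by
    decide +kernel
  rcases hcases K h0K hdvd with hK0 | hK1
  · -- the line is fixed
    have hle : H ≤ (MulAction.stabilizer (Perm (Fin 112)) (0 : Fin 112)).comap (psuLines hι hF) := by
      intro h hh
      have hmem : psuLines hι hF h 0 ∈ O := ⟨⟨h, hh⟩, rfl⟩
      rw [← Set.mem_toFinset, hOeq, hK0, Finset.singleton_biUnion, Finset.mem_filter] at hmem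
      have hone : ∀ x : Fin 112, x.val ∈ uOrb 0 → x = 0 := by decide +kernel
      exact hone _ hmem.2
    refine Subgroup.eq_of_le_of_card_ge hle ?_
    have := ((MulAction.stabilizer (Perm (Fin 112)) (0 : Fin 112)).comap (psuLines hι hF)).index_mul_card
    rw [hidx, UFourThree.card_eq hι hF] at this
    omega
  · -- the lines of a pencil are permuted: their common point is fixed
    exfalso
    have hO01 : ∀ x : Fin 112, x ∈ O ↔ x.val ∈ uOrb 0 ++ uOrb 1 := by
      intro x
      rw [← Set.mem_toFinset, hOeq, hK1]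
      simp
    have hapex := uOrb_ok
    simp only [Bool.and_eq_true, forBelow_iff, decide_eq_true_eq, beq_iff_eq] at hapex
    obtain ⟨hlt, hapex⟩ := hapex.2
    let P : Fin 280 := ⟨apexPt, hlt⟩
    have hP : ∀ i : Fin 280, (∀ x ∈ O, onLine x i = true) ↔ i = P := by
      intro i
      have h := hapex i.1 i.2
      rw [Bool.eq_iff_iff, List.all_eq_true, beq_iff_eq] at h
      constructor
      · intro hall
        refine Fin.ext (h.1 fun l hl => ?_)
        have hl112 : l < 112 := by
          have h2 := uOrb_ok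
          simp only [Bool.and_eq_true, List.all_eq_true, decide_eq_true_eq] at h2
          rcases List.mem_append.1 hl with hl' | hl'
          · exact (h2.1.1.1.2 0 (List.mem_finRange _) l hl').1
          · exact (h2.1.1.1.2 1 (List.mem_finRange _) l hl').1
        exact hall ⟨l, hl112⟩ ((hO01 _).2 hl)
      · rintro rfl x hx
        exact h.2 rfl x.val ((hO01 x).1 hx)
    have hle : H ≤ (MulAction.stabilizer (Perm (Fin 280)) P).comap (psuPoints hι hF) := by
      intro h hh
      refine ((hP _).1 fun x hx => ?_)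
      obtain ⟨y, rfl⟩ := (psuLines hι hF h).surjective x
      have hy : y ∈ O := by
        have : (⟨h, hh⟩ : H)⁻¹ • (psuLines hι hF h y) ∈ O :=
          MulAction.mem_orbit_of_mem_orbit _ hx
        rwa [show (⟨h, hh⟩ : H)⁻¹ • (psuLines hι hF h y) = y by
          show psuLines hι hF h⁻¹ (psuLines hι hF h y) = y
          rw [map_inv, Equiv.Perm.coe_inv, Equiv.symm_apply_apply]] at this
      exact (onLine_lineImage (psuPerm hι hF h) y P).trans ((hP P).2 rfl y hy)
    have hidxP : ((MulAction.stabilizer (Perm (Fin 280)) P).comap (psuPoints hι hF)).index = 280 := by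
      rw [index_comap_stabilizer _ _ fun y => ?_, Nat.card_eq_fintype_card, Fintype.card_fin]
      obtain ⟨g, hg⟩ := points_transitive hι hF y
      obtain ⟨h, hh⟩ := points_transitive hι hF P
      exact ⟨g * h⁻¹, by rw [map_mul, map_inv, Equiv.Perm.mul_apply, ← hh, Equiv.Perm.coe_inv,
        Equiv.symm_apply_apply, hg]⟩
    have := Subgroup.index_dvd_of_le hle
    rw [hidxP, hH] at this
    norm_num at this

/-- Every subgroup of index 112 is the stabiliser of a line. -/
theorem exists_eq_stabilizer (H : Subgroup (Cfsg.PSU 4 F 3)) (hH : H.index = 112) :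
    ∃ l : Fin 112, H = (MulAction.stabilizer (Perm (Fin 112)) l).comap (psuLines hι hF) := by
  classical
  obtain ⟨U, hU, -, horb⟩ := exists_unipotent hι hF
  haveI : Fact (Nat.Prime 3) := ⟨by norm_num⟩
  have hcard := UFourThree.card_eq hι hF
  have hcardH : Nat.card H = 29160 := by
    have := H.index_mul_card
    rw [hH, hcard] at this
    omega
  obtain ⟨P, hUP⟩ := hU.exists_le_sylow
  obtain ⟨Q⟩ := (inferInstance : Nonempty (Sylow 3 H))
  have hfac : ∀ {n : ℕ}, n = 729 * (n / 729) → ¬ 3 ∣ n / 729 → n ≠ 0 → n.factorization 3 = 6 := by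
    intro n h1 h2 h0
    rw [h1, Nat.factorization_mul (by norm_num) (fun e => h0 (by rw [h1, e, mul_zero])),
      Finsupp.add_apply, Nat.factorization_eq_zero_of_not_dvd h2,
      show (729 : ℕ) = 3 ^ 6 from rfl, Nat.Prime.factorization_pow (by norm_num)]
    simp
  have hQ : Nat.card (Q.toSubgroup.map H.subtype) = 3 ^ (Nat.card (Cfsg.PSU 4 F 3)).factorization 3 := by
    rw [Subgroup.card_map_of_injective H.subtype_injective, Q.card_eq_multiplicity, hcardH, hcard,
      hfac (by norm_num) (by norm_num) (by norm_num), hfac (by norm_num) (by norm_num) (by norm_num)]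
  obtain ⟨t, ht⟩ := MulAction.exists_smul_eq (Cfsg.PSU 4 F 3) P (Sylow.ofCard _ hQ)
  have hsub : ∀ u ∈ U, t * u * t⁻¹ ∈ H := by
    intro u hu
    have h1 : t * u * t⁻¹ ∈ (t • P : Sylow 3 (Cfsg.PSU 4 F 3)).toSubgroup := ⟨u, hUP hu, rfl⟩
    rw [ht] at h1
    obtain ⟨q, -, hq⟩ := h1
    exact hq ▸ q.2
  set H₁ := H.comap (MulAut.conj t).toMonoidHom with hH₁
  have h1 : H₁.index = 112 := by
    rw [hH₁, Subgroup.index_comap_of_surjective _ (MulAut.conj t).surjective, hH]
  have hst := fixes_zero hι hF (show U ≤ H₁ from hsub) horb h1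
  refine ⟨psuLines hι hF t 0, ?_⟩
  ext x
  have hx : x ∈ H ↔ t⁻¹ * x * t ∈ H₁ := by
    rw [hH₁, Subgroup.mem_comap]
    show x ∈ H ↔ t * (t⁻¹ * x * t) * t⁻¹ ∈ H
    simp [mul_assoc]
  rw [hx, hst]
  simp only [Subgroup.mem_comap, MulAction.mem_stabilizer_iff, Equiv.Perm.smul_def, map_mul, map_inv,
    Equiv.Perm.mul_apply, Equiv.Perm.coe_inv, Equiv.symm_apply_eq]

/-- The invariant graphs of valency 30 are the graph of intersecting lines. -/
theorem eq_gAdjN {R : Fin 112 → Fin 112 → Bool} (hirr : ∀ l, R l l = false)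
    (hinv : ∀ g l m, R (psuLines hι hF g l) (psuLines hι hF g m) = R l m)
    (hdeg : ((Finset.univ : Finset (Fin 112)).filter fun m => R 0 m).card = 30) (l m : Fin 112) :
    R l m = gAdjN l m := by
  classical
  obtain ⟨U, -, hfix, horb⟩ := exists_unipotent hι hF
  have hone : ∀ x : Fin 112, x.val ∈ uOrb 0 → x = 0 := by decide +kernel
  have hcard : (Finset.univ.filter fun m : Fin 112 => gAdjN (0 : Fin 112) m).card = 30 := by decide +kernel
  have h81 : ((Finset.univ : Finset (Fin 112)).filter fun m => m.val ∈ uOrb 3).card = 81 := by decide +kernel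
  have hsub : (Finset.univ.filter fun m : Fin 112 => R 0 m) ⊆ Finset.univ.filter fun m : Fin 112 => gAdjN (0 : Fin 112) m := by
    intro x hx
    simp only [Finset.mem_filter, Finset.mem_univ, true_and] at hx ⊢
    obtain ⟨k, hk⟩ := uOrb_cover x
    rw [uOrb_facts x hk]
    have hk0 : k ≠ 0 := by
      rintro rfl
      rw [hone x hk, hirr] at hx
      exact Bool.false_ne_true hx
    have hk3 : k ≠ 3 := by
      rintro rfl
      have hle : (Finset.univ.filter fun m : Fin 112 => m.val ∈ uOrb 3).card ≤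
          (Finset.univ.filter fun m : Fin 112 => R 0 m).card := by
        refine Finset.card_le_card fun y hy => ?_
        simp only [Finset.mem_filter, Finset.mem_univ, true_and] at hy ⊢
        obtain ⟨u, hu, e⟩ := horb 3 x y hk hy
        have := hinv u 0 x
        rw [hfix u hu, e] at this
        exact this.trans hx
      omega
    revert hk0 hk3
    clear hk
    revert k
    decide
  have heq := Finset.eq_of_subset_of_card_le hsub (by rw [hdeg, hcard])
  have h0 : ∀ x : Fin 112, R 0 x = gAdjN (0 : Fin 112) x := fun x => by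
    have := Finset.ext_iff.1 heq x
    rw [Bool.eq_iff_iff]
    simpa only [Finset.mem_filter, Finset.mem_univ, true_and] using this
  obtain ⟨g, rfl⟩ := lines_transitive hι hF l
  obtain ⟨x, rfl⟩ := (psuLines hι hF g).surjective m
  rw [hinv, h0]
  exact (gAdjN_lineHom (psuPerm hι hF g) 0 x).symm

end concrete

end CfsgLib.McLRec
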