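import Cfsg.Agent.RankThree.OrbitalGraph
import Cfsg.Agent.RankThree.UFourLineStab
import Cfsg.Agent.RankThree.McLGraphUnique
import Cfsg.Agent.RankThree.McLModel

/-!
# The McLaughlin group as the rank 3 group of degree 275
-/

set_option autoImplicit false
set_option maxRecDepth 100000

namespace CfsgLib.McLRec

open CfsgLib.UThree
open Equiv (Perm)

/-- A strongly regular graph of valency 112 on 275 vertices has no parameters 111, 0. -/
theorem lam_ne {Ω : Type*} [Fintype Ω] (hΩ : Fintype.card Ω = 275) {Γ : SimpleGraph Ω} {mu : ℕ}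
    (hd : ∀ x, {z | Γ.Adj x z}.ncard = 112)
    (hn : ∀ x y, x ≠ y → ¬ Γ.Adj x y → {z | Γ.Adj x z ∧ Γ.Adj y z}.ncard = mu) : mu ≠ 0 := by
  classical
  rintro rfl
  let B : Ω → Finset Ω := fun x => insert x (Γ.neighborFinset x)
  have hsub : ∀ x z, Γ.Adj x z → B z ⊆ B x := by
    intro x z hxz w hw
    simp only [B, Finset.mem_insert, SimpleGraph.mem_neighborFinset] at hw ⊢
    rcases hw with rfl | hw
    · exact Or.inr hxz
    · by_contra hne
      push Not at hne
      have h0 := hn x w (Ne.symm hne.1) hne.2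
      rw [Set.ncard_eq_zero (Set.toFinite _)] at h0
      exact (h0.symm ▸ (⟨hxz, hw.symm⟩ : z ∈ {z | Γ.Adj x z ∧ Γ.Adj w z}) : z ∈ (∅ : Set Ω))
  have hB : ∀ x y, B y = B x ↔ y ∈ B x := by
    intro x y
    refine ⟨fun e => e ▸ Finset.mem_insert_self y _, fun hy => ?_⟩
    rcases Finset.mem_insert.1 hy with rfl | hy
    · rfl
    · rw [SimpleGraph.mem_neighborFinset] at hy
      exact Finset.Subset.antisymm (hsub x y hy) (hsub y x hy.symm)
  have hcard : ∀ x, (B x).card = 113 := fun x => by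
    rw [Finset.card_insert_of_notMem (by simp), ← Set.ncard_coe_finset]
    simp [SimpleGraph.neighborSet, hd x]
  have hsum := Finset.card_eq_sum_card_image B Finset.univ
  rw [Finset.sum_const_nat (m := 113) (fun s hs => ?_), Finset.card_univ, hΩ] at hsum
  · omega
  · obtain ⟨x, -, rfl⟩ := Finset.mem_image.1 hs
    rw [← hcard x]
    congr 1
    ext y
    simp [hB x y]

/-- A rank 3 group on 275 points with point stabiliser PSU(4,3) is the McLaughlin group. -/
theorem nonempty_mulEquiv_mcl {G Ω : Type*} [Group G] [Finite G] [Fintype Ω] [MulAction G Ω]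
    [FaithfulSMul G Ω] [MulAction.IsPretransitive G Ω] (hΩ : Fintype.card Ω = 275) (a b c : Ω)
    {K : Type*} [Field K] [Fintype K] (hK : Fintype.card K = 9)
    (e : MulAction.stabilizer G a ≃* Cfsg.PSU 4 K 3)
    (hb : (MulAction.orbit (MulAction.stabilizer G a) b).ncard = 112)
    (hc : (MulAction.orbit (MulAction.stabilizer G a) c).ncard = 162) :
    Nonempty (G ≃* Cfsg.Spor.McL) := by
  classical
  haveI : CharP K 3 := charP_of_card_eq_prime_pow (f := 2) (p := 3) (by rw [hK]; norm_num)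
  haveI : Fact (Nat.Prime 3) := ⟨by norm_num⟩
  obtain ⟨ι, hι⟩ := exists_iota hK
  set A := MulAction.stabilizer G a with hA
  have hAcard : Nat.card A = 3265920 := by rw [Nat.card_congr e.toEquiv, UFourThree.card_eq hι hK]
  haveI : IsSimpleGroup (Cfsg.PSU 4 K 3) :=
    CfsgLib.Forms4.isSimpleGroup_PSU (q := 3) (by rw [hK]; norm_num) 4 (by norm_num) (by norm_num)
  haveI : IsSimpleGroup A := MulEquiv.isSimpleGroup e
  have hGcard : Nat.card G = 898128000 := by
    rw [← Subgroup.index_mul_card A, hAcard, hA, MulAction.index_stabilizer_of_transitive G a,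
      Nat.card_eq_fintype_card, hΩ]
  obtain ⟨Γ, lam, mu, hinv, hnb, hfar, hdeg, hadj, hnadj, hlt, hpar⟩ :=
    exists_orbital_graph (G := G) a b c hb hc (by norm_num) (by norm_num) (by norm_num) (by rw [hΩ])
  have hmu0 := lam_ne hΩ hdeg hnadj
  have hlam : lam = 30 ∧ mu = 56 := by omega
  obtain ⟨rfl, rfl⟩ := hlam
  -- the neighbours are the lines
  set ψ : Cfsg.PSU 4 K 3 →* Perm (Fin 112) := psuLines hι hK with hψ
  obtain ⟨l₀, hl₀⟩ := exists_eq_stabilizer hι hK ((MulAction.stabilizer A b).map (e : A →* Cfsg.PSU 4 K 3)) (by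
    rw [Subgroup.index_map_equiv (MulAction.stabilizer A b) e, MulAction.index_stabilizer, hb])
  have hfix : ∀ g : A, g • b = b ↔ ψ (e g) l₀ = l₀ := by
    intro g
    have : e g ∈ (MulAction.stabilizer A b).map (e : A →* Cfsg.PSU 4 K 3) ↔ g • b = b := by
      rw [show (e g : Cfsg.PSU 4 K 3) = (e : A →* Cfsg.PSU 4 K 3) g from rfl, Subgroup.mem_map_iff_mem e.injective,
        MulAction.mem_stabilizer_iff]
    rw [← this, hl₀]
    rfl
  have hex : ∀ l : Fin 112, ∃ g : A, ψ (e g) l₀ = l := by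
    intro l
    obtain ⟨g, hg⟩ := lines_transitive hι hK l
    obtain ⟨h, hh⟩ := lines_transitive hι hK l₀
    refine ⟨e.symm (g * h⁻¹), ?_⟩
    rw [e.apply_symm_apply, map_mul, map_inv, Equiv.Perm.mul_apply, Equiv.Perm.coe_inv, hψ, ← hh,
      Equiv.symm_apply_apply, hg]
  choose sec hsec using hex
  have hsame : ∀ g h : A, g • b = h • b ↔ ψ (e g) l₀ = ψ (e h) l₀ := by
    intro g h
    rw [eq_comm, ← inv_smul_eq_iff, smul_smul, hfix, map_mul, map_inv, map_mul, map_inv,
      Equiv.Perm.mul_apply, Equiv.Perm.coe_inv, Equiv.symm_apply_eq, eq_comm]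
  set ν : Fin 112 → Ω := fun l => sec l • b with hν
  have hνeq : ∀ g : A, g • b = ν (ψ (e g) l₀) := fun g => (hsame _ _).2 (hsec _).symm
  have hequi : ∀ (g : A) (l : Fin 112), ν (ψ (e g) l) = g • ν l := by
    intro g l
    show sec _ • b = g • sec l • b
    rw [smul_smul, hsame, hsec, map_mul, map_mul, Equiv.Perm.mul_apply, hsec]
  have hinj : Function.Injective ν := fun l m h => by
    rw [← hsec l, ← hsec m]; exact (hsame _ _).1 h
  have hrange : ∀ z, Γ.Adj a z ↔ ∃ l, ν l = z := fun z => by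
    rw [hnb]
    exact ⟨fun ⟨g, hg⟩ => ⟨_, (hνeq g).symm.trans hg⟩, fun ⟨l, hl⟩ => ⟨sec l, hl⟩⟩
  have hlines : ∀ l m : Fin 112, Γ.Adj (ν l) (ν m) ↔ gAdjN l.val m.val = true := by
    intro l m
    rw [← eq_gAdjN hι hK (R := fun l m => decide (Γ.Adj (ν l) (ν m))) (fun l => by simp)
      ?pinv ?pdeg l m, decide_eq_true_eq]
    case pinv =>
      intro g l m
      obtain ⟨g, rfl⟩ := e.surjective g
      rw [← hψ, hequi, hequi]
      exact decide_eq_decide.2 (hinv g.1 _ _)
    case pdeg =>
      rw [← hadj a (ν 0) ((hrange _).2 ⟨0, rfl⟩), ← Finset.card_image_of_injective _ hinj,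
        ← Set.ncard_coe_finset]
      congr 1
      ext z
      simp only [Finset.coe_image, Finset.coe_filter, Set.mem_image, Finset.mem_univ, true_and,
        decide_eq_true_eq, Set.mem_setOf_eq]
      constructor
      · rintro ⟨m, hm, rfl⟩
        exact ⟨(hrange _).2 ⟨m, rfl⟩, hm⟩
      · rintro ⟨h1, h2⟩
        obtain ⟨m, rfl⟩ := (hrange _).1 h1
        exact ⟨m, h2, rfl⟩
  have D : LineGraphData Γ a ν := ⟨hΩ, hdeg, hadj, hnadj, hinj, hrange, hlines⟩
  obtain ⟨φ, hφ⟩ := exists_equiv_model (G := G) D hinv (by rw [hAcard]; norm_num) (fun x hx y hy => by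
    rw [mem_farSet] at hx hy
    obtain ⟨g, rfl⟩ := hfar x hx.1 hx.2
    obtain ⟨h, rfl⟩ := hfar y hy.1 hy.2
    exact ⟨(h * g⁻¹ : A), (h * g⁻¹).2, by
      show (h * g⁻¹) • g • c = h • c
      rw [smul_smul, inv_mul_cancel_right]⟩)
  -- inside the symmetries of the model
  let Φ : G →* Perm (Fin 275) := (Equiv.permCongrHom φ).toMonoidHom.comp (MulAction.toPermHom G Ω)
  have hΦ : Function.Injective Φ := (Equiv.permCongrHom φ).injective.comp MulAction.toPerm_injective
  have hle : ∀ g, Φ g ∈ autM := by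
    intro g u v
    obtain ⟨x, rfl⟩ := φ.surjective u
    obtain ⟨y, rfl⟩ := φ.surjective v
    show adjF (φ (g • φ.symm (φ x))) (φ (g • φ.symm (φ y))) = adjF (φ x) (φ y)
    rw [Equiv.symm_apply_apply, Equiv.symm_apply_apply, Bool.eq_iff_iff, ← hφ, ← hφ, hinv]
  obtain ⟨ρ, hρ, hρle, hρcard, -⟩ := exists_model_codes
  let Φ' : G →* autM := Φ.codRestrict autM hle
  set M := ρ.range.subgroupOf autM with hM
  have hMidx : M.index ≤ 2 := by
    have h := M.index_mul_card
    rw [hM, Nat.card_congr (Subgroup.subgroupOfEquivOfLe hρle).toEquiv, hρcard] at h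
    have := natCard_autM_le
    rw [← hM] at h
    omega
  haveI hMn : M.Normal := by
    have h0 := M.index_ne_zero_of_finite
    rcases Nat.lt_or_ge M.index 2 with h | h
    · rw [Subgroup.index_eq_one.1 (show M.index = 1 by omega)]; infer_instance
    · exact Subgroup.normal_of_index_eq_two (by omega)
  set N := M.comap Φ' with hN
  haveI : N.Normal := hMn.comap Φ'
  have hNidx : N.index ∣ M.index := by
    rw [hN, Subgroup.index_comap]
    exact Subgroup.relIndex_dvd_index_of_normal M _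
  have hAN : A ≤ N := by
    rcases (inferInstance : (N.subgroupOf A).Normal).eq_bot_or_eq_top with h | h
    · exfalso
      have h1 : (N.subgroupOf A).index ∣ N.index := Subgroup.relIndex_dvd_index_of_normal N A
      rw [h, Subgroup.index_bot, hAcard] at h1
      have h2 := Nat.le_of_dvd (Nat.pos_of_ne_zero M.index_ne_zero_of_finite) (h1.trans hNidx)
      omega
    · exact Subgroup.subgroupOf_eq_top.1 h
  have h275 : N.index ∣ 275 := by
    have := Subgroup.index_dvd_of_le hAN
    rwa [hA, MulAction.index_stabilizer_of_transitive G a, Nat.card_eq_fintype_card, hΩ] at this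
  have hN1 : N.index = 1 := by
    have h1 : N.index ≤ 2 := (Nat.le_of_dvd (Nat.pos_of_ne_zero M.index_ne_zero_of_finite) hNidx).trans hMidx
    have h0 := N.index_ne_zero_of_finite
    have : N.index ≠ 2 := fun h => by rw [h] at h275; norm_num at h275
    omega
  have hrange' : Φ.range ≤ ρ.range := by
    rintro _ ⟨g, rfl⟩
    have : g ∈ N := (Subgroup.index_eq_one.1 hN1).symm ▸ Subgroup.mem_top g
    exact this
  have heq : Φ.range = ρ.range := Subgroup.eq_of_le_of_card_ge hrange'
    (by rw [hρcard, ← Nat.card_congr (MonoidHom.ofInjective hΦ).toEquiv, hGcard])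
  exact ⟨((MonoidHom.ofInjective hΦ).trans (MulEquiv.subgroupCongr heq)).trans (MonoidHom.ofInjective hρ).symm⟩

end CfsgLib.McLRec
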