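import Mathlib.GroupTheory.GroupAction.Quotient
import Mathlib.Combinatorics.SimpleGraph.StronglyRegular
import Mathlib.GroupTheory.Index

/-!
# The graph of a rank 3 group with distinct subdegrees
-/

set_option autoImplicit false

namespace CfsgLib.McLRec

variable {G Ω : Type*} [Group G] [MulAction G Ω]

/-- A rank 3 group with distinct subdegrees preserves a strongly regular graph. -/
theorem exists_orbital_graph [Finite G] [Fintype Ω] [MulAction.IsPretransitive G Ω] (a b c : Ω) {k l : ℕ}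
    (hk : (MulAction.orbit (MulAction.stabilizer G a) b).ncard = k)
    (hl : (MulAction.orbit (MulAction.stabilizer G a) c).ncard = l)
    (hkl : k ≠ l) (hk1 : k ≠ 1) (hl1 : l ≠ 1) (hsum : 1 + k + l = Fintype.card Ω) :
    ∃ (Γ : SimpleGraph Ω) (lam mu : ℕ),
      (∀ (g : G) x y, Γ.Adj (g • x) (g • y) ↔ Γ.Adj x y) ∧
      (∀ z, Γ.Adj a z ↔ z ∈ MulAction.orbit (MulAction.stabilizer G a) b) ∧
      (∀ z, z ≠ a → ¬ Γ.Adj a z → z ∈ MulAction.orbit (MulAction.stabilizer G a) c) ∧
      (∀ x, {z | Γ.Adj x z}.ncard = k) ∧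
      (∀ x y, Γ.Adj x y → {z | Γ.Adj x z ∧ Γ.Adj y z}.ncard = lam) ∧
      (∀ x y, x ≠ y → ¬ Γ.Adj x y → {z | Γ.Adj x z ∧ Γ.Adj y z}.ncard = mu) ∧
      lam < k ∧ k * (k - lam - 1) = l * mu := by
  classical
  set O₁ := MulAction.orbit (MulAction.stabilizer G a) b with hO₁
  set O₂ := MulAction.orbit (MulAction.stabilizer G a) c with hO₂
  have hself : MulAction.orbit (MulAction.stabilizer G a) a = {a} := by
    ext z
    exact ⟨fun ⟨g, hg⟩ => hg ▸ g.2, fun (hz : z = a) => by rw [hz]; exact MulAction.mem_orbit_self a⟩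
  have ha : ∀ x : Ω, (MulAction.orbit (MulAction.stabilizer G a) x).ncard ≠ 1 →
      a ∉ MulAction.orbit (MulAction.stabilizer G a) x := fun x hx h => by
    rw [← MulAction.orbit_eq_iff, hself] at h
    exact hx (by rw [← h, Set.ncard_singleton])
  have ha1 : a ∉ O₁ := ha b (by rw [← hO₁, hk]; exact hk1)
  have ha2 : a ∉ O₂ := ha c (by rw [← hO₂, hl]; exact hl1)
  have hdisj : Disjoint O₁ O₂ := by
    rw [Set.disjoint_left]
    intro z h1 h2
    rw [hO₁, ← MulAction.orbit_eq_iff.2 h1, MulAction.orbit_eq_iff.2 h2] at hk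
    exact hkl (hk.symm.trans hl)
  have hcover : ∀ z, z = a ∨ z ∈ O₁ ∨ z ∈ O₂ := by
    have hU : (insert a (O₁ ∪ O₂) : Set Ω) = Set.univ := by
      refine Set.eq_of_subset_of_ncard_le (Set.subset_univ _) ?_ (Set.toFinite _)
      rw [Set.ncard_univ, Nat.card_eq_fintype_card, Set.ncard_insert_of_notMem (by simp [ha1, ha2]),
        Set.ncard_union_eq hdisj, hk, hl, ← hsum]
      omega
    intro z
    have := hU.symm ▸ Set.mem_univ z
    simpa [or_assoc] using this
  have hba : b ≠ a := fun e => ha1 (e ▸ MulAction.mem_orbit_self b)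
  let R : Ω → Ω → Prop := fun x y => ∃ g : G, g • a = x ∧ g • b = y
  have hRa : ∀ z, R a z ↔ z ∈ O₁ := fun z =>
    ⟨fun ⟨g, h1, h2⟩ => ⟨⟨g, h1⟩, h2⟩, fun ⟨g, h⟩ => ⟨g.1, g.2, h⟩⟩
  have hRg : ∀ (g : G) x y, R x y → R (g • x) (g • y) := by
    rintro g _ _ ⟨h, rfl, rfl⟩
    exact ⟨g * h, mul_smul _ _ _, mul_smul _ _ _⟩
  obtain ⟨g₀, hg₀⟩ := MulAction.exists_smul_eq G b a
  have hRrev : R b a := by
    have hd : g₀ • a ∈ O₁ := by
      have hw : ∀ w ∈ MulAction.orbit (MulAction.stabilizer G a) (g₀ • a), R w a := by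
        rintro _ ⟨h, rfl⟩
        exact ⟨h.1 * g₀, by rw [mul_smul]; rfl, by rw [mul_smul, hg₀]; exact h.2⟩
      have hrev : (MulAction.orbit (MulAction.stabilizer G a) (g₀ • a)).ncard = k := by
        have hfib : ∀ x : Ω, {y | R x y}.ncard = k := by
          intro x
          obtain ⟨t, rfl⟩ := MulAction.exists_smul_eq G a x
          rw [← hk, ← Set.ncard_image_of_injective O₁ (MulAction.injective t)]
          congr 1
          ext y
          constructor
          · intro h
            refine ⟨t⁻¹ • y, (hRa _).1 ?_, smul_inv_smul t y⟩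
            have := hRg t⁻¹ _ _ h
            rwa [inv_smul_smul] at this
          · rintro ⟨z, hz, rfl⟩
            exact hRg t _ _ ((hRa z).2 hz)
        -- the reverse relation has the same valency, by double counting
        have hin : {x | R x a} = MulAction.orbit (MulAction.stabilizer G a) (g₀ • a) := by
          refine Set.Subset.antisymm ?_ hw
          rintro _ ⟨g, rfl, hgb⟩
          refine ⟨⟨g * g₀⁻¹, ?_⟩, ?_⟩
          · rw [MulAction.mem_stabilizer_iff, mul_smul, ← hg₀, inv_smul_smul, hgb]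
            exact hg₀.symm
          · show (g * g₀⁻¹) • g₀ • a = g • a
            rw [mul_smul, inv_smul_smul]
        have hinv : ∀ y : Ω, {x | R x y}.ncard = {x | R x a}.ncard := by
          intro y
          obtain ⟨t, rfl⟩ := MulAction.exists_smul_eq G a y
          rw [← Set.ncard_image_of_injective {x | R x a} (MulAction.injective t)]
          congr 1
          ext x
          constructor
          · intro h
            refine ⟨t⁻¹ • x, ?_, smul_inv_smul t x⟩
            have := hRg t⁻¹ _ _ h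
            rwa [inv_smul_smul] at this
          · rintro ⟨z, hz, rfl⟩
            exact hRg t _ _ hz
        have hdouble := Finset.sum_card_bipartiteAbove_eq_sum_card_bipartiteBelow (s := Finset.univ)
          (t := Finset.univ) (r := R)
        simp only [Finset.bipartiteAbove, Finset.bipartiteBelow] at hdouble
        have e1 : ∀ x, (Finset.univ.filter (R x)).card = k := fun x => by
          rw [← hfib x, ← Set.ncard_coe_finset]; simp
        have e2 : ∀ y, (Finset.univ.filter fun x => R x y).card = {x | R x a}.ncard := fun y => by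
          rw [← hinv y, ← Set.ncard_coe_finset]; simp
        simp only [e1, e2, Finset.sum_const, smul_eq_mul] at hdouble
        rw [← hin]
        have : Nonempty Ω := ⟨a⟩
        exact (Nat.eq_of_mul_eq_mul_left (Finset.card_pos.2 Finset.univ_nonempty) hdouble).symm
      rcases hcover (g₀ • a) with e | e | e
      · rw [e, hself, Set.ncard_singleton] at hrev; exact absurd hrev.symm hk1
      · exact e
      · rw [MulAction.orbit_eq_iff.2 e, ← hO₂, hl] at hrev; exact absurd hrev.symm hkl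
    obtain ⟨h₀, he₀⟩ := hd
    exact ⟨g₀⁻¹ * h₀.1, by rw [mul_smul, MulAction.mem_stabilizer_iff.1 h₀.2, ← hg₀, inv_smul_smul],
      by rw [mul_smul, show h₀.1 • b = g₀ • a from he₀, inv_smul_smul]⟩
  let Γ : SimpleGraph Ω :=
    { Adj := R
      symm := ⟨fun x y ⟨g, hx, hy⟩ => hx ▸ hy ▸ hRg g _ _ hRrev⟩
      loopless := ⟨fun x ⟨g, hx, hy⟩ => hba (MulAction.injective g (hy.trans hx.symm))⟩ }
  have hinv : ∀ (g : G) x y, Γ.Adj (g • x) (g • y) ↔ Γ.Adj x y := fun g x y =>
    ⟨fun h => by simpa using hRg g⁻¹ _ _ h, hRg g x y⟩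
  have hfar : ∀ z, z ≠ a → ¬ Γ.Adj a z → z ∈ O₂ := fun z hne hn => by
    rcases hcover z with e | e | e
    exacts [absurd e hne, absurd ((hRa z).2 e) hn, e]
  have hcard : ∀ (g : G) (x y : Ω), {z | Γ.Adj (g • x) z ∧ Γ.Adj (g • y) z}.ncard =
      {z | Γ.Adj x z ∧ Γ.Adj y z}.ncard := fun g x y => by
    rw [← Set.ncard_image_of_injective {z | Γ.Adj x z ∧ Γ.Adj y z} (MulAction.injective g)]
    congr 1
    ext z
    constructor
    · intro h
      refine ⟨g⁻¹ • z, ?_, smul_inv_smul g z⟩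
      rw [Set.mem_setOf_eq, ← hinv g x, ← hinv g y, smul_inv_smul]
      exact h
    · rintro ⟨w, hw, rfl⟩
      exact ⟨(hinv g x w).2 hw.1, (hinv g y w).2 hw.2⟩
  have hdeg : ∀ x, {z | Γ.Adj x z}.ncard = k := by
    intro x
    obtain ⟨t, rfl⟩ := MulAction.exists_smul_eq G a x
    rw [← hk, ← Set.ncard_image_of_injective O₁ (MulAction.injective t)]
    congr 1
    ext y
    constructor
    · intro h
      exact ⟨t⁻¹ • y, (hRa _).1 ((hinv t a _).1 (by rwa [smul_inv_smul])), smul_inv_smul t y⟩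
    · rintro ⟨z, hz, rfl⟩
      exact (hinv t a z).2 ((hRa z).2 hz)
  have hadj : ∀ x y, Γ.Adj x y → {z | Γ.Adj x z ∧ Γ.Adj y z}.ncard =
      {z | Γ.Adj a z ∧ Γ.Adj b z}.ncard := by
    rintro _ _ ⟨g, rfl, rfl⟩
    exact hcard g a b
  have hnadj : ∀ x y, x ≠ y → ¬ Γ.Adj x y → {z | Γ.Adj x z ∧ Γ.Adj y z}.ncard =
      {z | Γ.Adj a z ∧ Γ.Adj c z}.ncard := by
    intro x y hne hn
    obtain ⟨t, rfl⟩ := MulAction.exists_smul_eq G a x
    obtain ⟨z, rfl⟩ : ∃ z, t • z = y := ⟨t⁻¹ • y, smul_inv_smul t y⟩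
    rw [hinv] at hn
    obtain ⟨⟨h, h2⟩, rfl⟩ := hfar z (fun e => hne (by rw [e])) hn
    rw [MulAction.mem_stabilizer_iff] at h2
    rw [hcard t]
    show {z | Γ.Adj a z ∧ Γ.Adj (h • c) z}.ncard = _
    conv_lhs => rw [← h2]
    exact hcard h a c
  have hlt : {z | Γ.Adj a z ∧ Γ.Adj b z}.ncard < k := by
    rw [← hdeg a]
    refine Set.ncard_lt_ncard ?_ (Set.toFinite _)
    refine Set.ssubset_iff_subset_ne.2 ⟨fun z hz => hz.1, fun e => ?_⟩
    have : b ∈ {z | Γ.Adj a z} := (hRa b).2 (MulAction.mem_orbit_self b)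
    rw [← e] at this
    exact Γ.irrefl this.2
  refine ⟨Γ, _, _, hinv, hRa, hfar, hdeg, hadj, hnadj, hlt, ?_⟩
  have hsrg : Γ.IsSRGWith (Fintype.card Ω) k {z | Γ.Adj a z ∧ Γ.Adj b z}.ncard
      {z | Γ.Adj a z ∧ Γ.Adj c z}.ncard := by
    have conv : ∀ x y, Fintype.card (Γ.commonNeighbors x y) = {z | Γ.Adj x z ∧ Γ.Adj y z}.ncard :=
      fun x y => (Nat.card_eq_fintype_card).symm.trans (Nat.card_coe_set_eq _)
    refine ⟨rfl, fun x => ?_, fun x y h => (conv x y).trans (hadj x y h),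
      fun x y hne h => (conv x y).trans (hnadj x y hne h)⟩
    rw [← SimpleGraph.card_neighborSet_eq_degree, ← Nat.card_eq_fintype_card]
    exact (Nat.card_coe_set_eq _).trans (hdeg x)
  have := SimpleGraph.IsSRGWith.param_eq Γ hsrg (Fintype.card_pos_iff.2 ⟨a⟩)
  rwa [← hsum, show 1 + k + l - k - 1 = l by omega] at this

end CfsgLib.McLRec
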