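import Cfsg.Agent.UFourThree.Seven
import Cfsg.Agent.RankThree.McLRecData
import Cfsg.Agent.GraphPerm.Table
import Mathlib.GroupTheory.Sylow

/-!
# The lines of the Hermitian quadrangle of U(4,3)

`PSU(4,3)` acts on the 112 totally isotropic lines; every subgroup of index 112 fixes a line, and the
only invariant graph of valency 30 on the lines is that of intersecting lines.
-/

set_option autoImplicit false
set_option maxRecDepth 100000

namespace CfsgLib.McLRec

open Matrix CfsgLib.UThree CfsgLib.UFourThree Data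
open CfsgLib.GraphPerm (tget forBelow forBelow_iff)
open Equiv (Perm)

/-! ### Codes -/

/-- A digit in base nine. -/
def dig (v k : ℕ) : ℕ := v / 9 ^ k % 9

/-- The product table, four bits an entry. -/
def mulTab : ℕ := (List.range 81).foldl (fun acc k => acc + (mulF (k / 9) (k % 9) <<< (4 * k))) 0

/-- The sum table, four bits an entry. -/
def addTab : ℕ := (List.range 81).foldl (fun acc k => acc + (addF (k / 9) (k % 9) <<< (4 * k))) 0

/-- Multiply a coded vector by a coded scalar. -/
def scaleC (a v : ℕ) : ℕ :=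
  mulF a (dig v 0) + 9 * mulF a (dig v 1) + 81 * mulF a (dig v 2) + 729 * mulF a (dig v 3)

/-- The form on coded vectors. -/
def hermC (v w : ℕ) : ℕ :=
  addF (addF (mulF (dig v 0) (conjF (dig w 0))) (mulF (dig v 1) (conjF (dig w 1))))
    (addF (mulF (dig v 2) (conjF (dig w 2))) (mulF (dig v 3) (conjF (dig w 3))))

/-- The first nonzero entry. -/
def leadC (v : ℕ) : ℕ :=
  if dig v 0 ≠ 0 then dig v 0 else if dig v 1 ≠ 0 then dig v 1
  else if dig v 2 ≠ 0 then dig v 2 else dig v 3

/-- Inverse of a code. -/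
def invF (a : ℕ) : ℕ := ((List.range 9).find? fun b => mulF a b == 1).getD 0

/-- The coded point. -/
def pt (i : ℕ) : ℕ := (ptPack >>> (13 * i)) % 8192

/-- The number of a coded point. -/
def ptIdx (v : ℕ) : ℕ := tget ptIndex v

/-- The form on coded vectors, by tables. -/
def hermT (v w : ℕ) : ℕ :=
  let m := fun k => (mulTab >>> (4 * (9 * dig v k + conjF (dig w k)))) % 16
  let s := fun a b => (addTab >>> (4 * (9 * a + b))) % 16
  s (s (m 0) (m 1)) (s (m 2) (m 3))

/-- A coded matrix. -/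
def matC (A : ℕ) : List (List ℕ) := tab4 fun i j => A / 9 ^ (4 * i + j) % 9

/-- A coded matrix times a coded vector. -/
def mulVecC (A : List (List ℕ)) (v : ℕ) : ℕ :=
  let e := fun i => addF (addF (mulF (get4 A i 0) (dig v 0)) (mulF (get4 A i 1) (dig v 1)))
    (addF (mulF (get4 A i 2) (dig v 2)) (mulF (get4 A i 3) (dig v 3)))
  e 0 + 9 * e 1 + 81 * e 2 + 729 * e 3

/-- Perpendicular points. -/
def perpB (i j : ℕ) : Bool := perpBits.testBit (280 * i + j)

/-- A point on a line. -/
def onLine (l i : ℕ) : Bool := lineBits.testBit (280 * l + i)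

/-- A line as a set of points. -/
def lineMask (l : ℕ) : ℕ := (lineBits >>> (280 * l)) % 2 ^ 280

/-- A row of perpendicularity. -/
def perpMask (i : ℕ) : ℕ := (perpBits >>> (280 * i)) % 2 ^ 280

/-- The lines through a point. -/
def pencil (i : ℕ) : List ℕ := (List.range 4).map fun r => (pencilPack >>> (36 * i + 9 * r)) % 512

/-- The points of a line. -/
def members (l : ℕ) : List ℕ := (List.range 280).filter (onLine l)

/-- Two lines meet. -/
def gAdjN (l m : ℕ) : Bool :=
  decide (l ≠ m) && !((lineMask l &&& lineMask m) == 0)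

/-- A step of a spanning tree. -/
def treeOK (tabs : List ℕ) : List ℕ → List ℕ → Bool
  | _, [] => true
  | seen, e :: rest =>
    seen.contains (e / 1024 % 1024) && decide (e / 1048576 < tabs.length) &&
      tget (tabs.getD (e / 1048576) 0) (e / 1024 % 1024) == e % 1024 &&
      treeOK tabs (e % 1024 :: seen) rest

/-- The points of a tree. -/
def treePts (r : ℕ) (tr : List ℕ) : List ℕ := r :: tr.map (· % 1024)

/-- The six unipotent generators. -/
def uTabsLine : List ℕ := lineTabs.take 6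

/-- The four orbits of the unipotent group on lines. -/
def uOrb : Fin 4 → List ℕ
  | 0 => treePts (uReps.getD 0 0) uTree0
  | 1 => treePts (uReps.getD 1 0) uTree1
  | 2 => treePts (uReps.getD 2 0) uTree2
  | 3 => treePts (uReps.getD 3 0) uTree3

/-- Their representatives. -/
def uRep (k : Fin 4) : ℕ := uReps.getD k.1 0

/-! ### Checks -/

theorem pts_exist : forBelow 6561 (fun v =>
    v == 0 || hermT v v != 0 ||
      (let c := leadC v
       let i := ptIdx (scaleC (invF c) v)
       decide (i < 280) && scaleC c (pt i) == v)) = true := by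
  decide +kernel

theorem pts_unique : forBelow 280 (fun i => hermT (pt i) (pt i) == 0 && pt i != 0 &&
    ptIdx (pt i) == i && decide (pt i < 6561) &&
      [2, 3, 4, 5, 6, 7, 8].all fun a => decide (280 ≤ ptIdx (scaleC a (pt i)))) = true := by
  decide +kernel

theorem perp_ok : forBelow 280 (fun i => forBelow 280 fun j =>
    perpB i j == (decide (i ≠ j) && hermT (pt i) (pt j) == 0)) = true := by
  decide +kernel

theorem lines_ok : forBelow 112 (fun l =>
    let ms := members l
    ms.length == 10 && ms.all fun i => ms.all fun j =>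
      i == j || (perpB i j &&
        ((1 <<< i) ||| (1 <<< j) ||| (perpMask i &&& perpMask j)) == lineMask l)) =
      true := by
  decide +kernel

theorem pencil_ok : forBelow 280 (fun i =>
    (forBelow 112 fun l => onLine l i == (pencil i).contains l) &&
      ((pencil i).all fun l => decide (l < 112)) &&
      forBelow 280 fun j => !(perpB i j) || ((pencil i).filter fun l => onLine l j).length == 1) = true := by
  decide +kernel

theorem gens_ok : forBelow 7 (fun k =>
    let A := matC (genCodes.getD k 0)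
    colsOK A && pow4 A (if k < 6 then 9 else 7) == diag4 1 1 &&
      (forBelow 280 fun i =>
        let w := mulVecC A (pt i)
        let t := tget (ptTabs.getD k 0) i
        decide (t < 280) && leadC w != 0 && scaleC (leadC w) (pt t) == w) &&
      forBelow 112 fun l => decide (tget (lineTabs.getD k 0) l < 112) &&
        ((members l).take 2).all fun i => onLine (tget (lineTabs.getD k 0) l) (tget (ptTabs.getD k 0) i)) = true := by
  decide +kernel

theorem trees_ok :
    (treeOK ptTabs [0] ptTree && (forBelow 280 fun i => (treePts 0 ptTree).contains i) &&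
      treeOK lineTabs [0] lineTree && (forBelow 112 fun i => (treePts 0 lineTree).contains i) &&
      treeOK uTabsLine [uReps.getD 0 0] uTree0 && treeOK uTabsLine [uReps.getD 1 0] uTree1 &&
      treeOK uTabsLine [uReps.getD 2 0] uTree2 && treeOK uTabsLine [uReps.getD 3 0] uTree3) = true := by
  decide +kernel

theorem uOrb_ok : (forBelow 112 fun l => ((List.finRange 4).filter fun k => (uOrb k).contains l).length == 1) &&
    ((List.finRange 4).all fun k => (uOrb k).length == [1, 3, 27, 81].getD k.1 0) &&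
    ((List.finRange 4).all fun k => (uOrb k).all fun l => decide (l < 112) &&
      gAdjN 0 l == (k == 1 || k == 2)) &&
    uRep 0 == 0 && (((List.range 112).filter (gAdjN 0)).length == 30) &&
    (decide (apexPt < 280) && forBelow 280 fun i => ((uOrb 0 ++ uOrb 1).all fun l => onLine l i) == (i == apexPt)) =
      true := by
  decide +kernel

theorem flag_ok : mul4 (matC flagBasis) (matC flagInv) == diag4 1 1 &&
    (forBelow 6 fun k =>
      let X := mul4 (mul4 (matC flagInv) (matC (genCodes.getD k 0))) (matC flagBasis)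
      forBelow 4 fun i => forBelow 4 fun j => decide (i < j) || get4 X i j == if i = j then 1 else 0) = true := by
  decide +kernel

theorem tabs_eq : forBelow 81 (fun k => (mulTab >>> (4 * k)) % 16 == mulF (k / 9) (k % 9) &&
    (addTab >>> (4 * k)) % 16 == addF (k / 9) (k % 9)) = true := by
  decide +kernel

/-! ### Symmetries of the perpendicularity relation -/

/-- The symmetries of perpendicularity on the points. -/
def perpAut : Subgroup (Perm (Fin 280)) where
  carrier := {σ | ∀ i j : Fin 280, perpB (σ i).val (σ j).val = perpB i.val j.val}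
  one_mem' := fun _ _ => rfl
  mul_mem' {a b} ha hb i j := (ha (b i) (b j)).trans (hb i j)
  inv_mem' {a} ha i j := by
    rw [← ha (a⁻¹ i) (a⁻¹ j), Equiv.Perm.coe_inv, Equiv.apply_symm_apply, Equiv.apply_symm_apply]

theorem one_shiftLeft_testBit (i k : ℕ) : (1 <<< i).testBit k = decide (i = k) := by
  rw [Nat.one_shiftLeft, Nat.testBit_two_pow]

theorem testBit_lineMask (l : ℕ) (i : Fin 280) : (lineMask l).testBit i = onLine l i := by
  simp [lineMask, onLine, Nat.testBit_mod_two_pow, Nat.testBit_shiftRight, i.2]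

theorem testBit_perpMask (l : ℕ) (i : Fin 280) : (perpMask l).testBit i = perpB l i := by
  simp [perpMask, perpB, Nat.testBit_mod_two_pow, Nat.testBit_shiftRight, i.2]

theorem onLine_eq {l i j : Fin 280} {L : Fin 112} (hi : onLine L i = true) (hj : onLine L j = true)
    (hij : i ≠ j) : perpB i j = true ∧
      onLine L l = (decide (i = l) || decide (j = l) || (perpB i l && perpB j l)) := by
  have h := forBelow_iff.1 lines_ok L.1 L.2
  simp only [Bool.and_eq_true, List.all_eq_true, Bool.or_eq_true, beq_iff_eq, members,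
    List.mem_filter, List.mem_range] at h
  rcases h.2 i.1 ⟨i.2, hi⟩ j.1 ⟨j.2, hj⟩ with e | ⟨e1, e2⟩
  · exact absurd (Fin.ext e) hij
  · refine ⟨e1, ?_⟩
    rw [← testBit_lineMask, ← e2]
    simp only [Nat.testBit_or, Nat.testBit_and, one_shiftLeft_testBit, testBit_perpMask, Fin.val_inj]

theorem exists_line {i j : Fin 280} (h : perpB i j = true) :
    ∃ L : Fin 112, onLine L i = true ∧ onLine L j = true ∧
      ∀ M : Fin 112, onLine M i = true → onLine M j = true → M = L := by
  have hp := forBelow_iff.1 pencil_ok i.1 i.2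
  simp only [Bool.and_eq_true, forBelow_iff, beq_iff_eq, Bool.or_eq_true, Bool.not_eq_true',
    List.all_eq_true, decide_eq_true_eq] at hp
  obtain ⟨⟨hon, hlt⟩, hu⟩ := hp
  obtain ⟨x, hx⟩ := List.length_eq_one_iff.1 ((hu j.1 j.2).resolve_left (by simp [h]))
  have hxm : x ∈ (pencil i).filter fun l => onLine l j := by rw [hx]; exact List.mem_cons_self
  rw [List.mem_filter] at hxm
  have hx112 : x < 112 := hlt x hxm.1
  refine ⟨⟨x, hx112⟩, (hon x hx112).trans (List.contains_iff_mem.2 hxm.1), hxm.2, fun M h1 h2 => ?_⟩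
  have hm : M.val ∈ (pencil i).filter fun l => onLine l j :=
    List.mem_filter.2 ⟨List.contains_iff_mem.1 ((hon M.1 M.2).symm.trans h1), h2⟩
  rw [hx, List.mem_singleton] at hm
  exact Fin.ext hm

theorem two_points (L : Fin 112) : ∃ i j : Fin 280, i ≠ j ∧ onLine L i = true ∧ onLine L j = true := by
  have h := forBelow_iff.1 lines_ok L.1 L.2
  simp only [Bool.and_eq_true, beq_iff_eq] at h
  have hl := h.1
  have hnd : (members L).Nodup := List.nodup_range.filter _
  rcases hm : members L with _ | ⟨i, _ | ⟨j, rest⟩⟩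
  · simp [hm] at hl
  · simp [hm] at hl
  · have hi : i ∈ members L := by rw [hm]; simp
    have hj : j ∈ members L := by rw [hm]; simp
    rw [members, List.mem_filter, List.mem_range] at hi hj
    refine ⟨⟨i, hi.1⟩, ⟨j, hj.1⟩, fun e => ?_, hi.2, hj.2⟩
    have : i = j := congrArg Fin.val e
    rw [hm, this] at hnd
    simp at hnd

theorem line_ext {L M : Fin 112} (h : ∀ i : Fin 280, onLine L i = onLine M i) : L = M := by
  obtain ⟨i, j, hij, hi, hj⟩ := two_points L
  obtain ⟨N, -, -, hu⟩ := exists_line (onLine_eq (l := i) hi hj hij).1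
  rw [hu L hi hj, hu M (by rw [← h]; exact hi) (by rw [← h]; exact hj)]

theorem exists_lineImage (σ : perpAut) (L : Fin 112) :
    ∃ M : Fin 112, ∀ i : Fin 280, onLine M (σ.1 i) = onLine L i := by
  obtain ⟨i, j, hij, hi, hj⟩ := two_points L
  obtain ⟨M, h1, h2, -⟩ := exists_line (i := σ.1 i) (j := σ.1 j)
    (by rw [σ.2]; exact (onLine_eq (l := i) hi hj hij).1)
  refine ⟨M, fun k => ?_⟩
  rw [(onLine_eq h1 h2 (σ.1.injective.ne hij)).2, (onLine_eq hi hj hij).2, σ.2, σ.2]
  simp [σ.1.injective.eq_iff]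

/-- The image of a line. -/
noncomputable def lineImage (σ : perpAut) (L : Fin 112) : Fin 112 := (exists_lineImage σ L).choose

theorem onLine_lineImage (σ : perpAut) (L : Fin 112) (i : Fin 280) :
    onLine (lineImage σ L) (σ.1 i) = onLine L i :=
  (exists_lineImage σ L).choose_spec i

theorem lineImage_eq {σ : perpAut} {L M : Fin 112}
    (h : ∀ i : Fin 280, onLine M (σ.1 i) = onLine L i) : lineImage σ L = M := by
  refine line_ext fun i => ?_
  obtain ⟨k, rfl⟩ := σ.1.surjective i
  rw [h, onLine_lineImage]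

theorem lineImage_eq_of_two {σ : perpAut} {L M : Fin 112}
    (h : ∀ i : Fin 280, i.val ∈ (members L).take 2 → onLine M (σ.1 i) = true) : lineImage σ L = M := by
  have hl := forBelow_iff.1 lines_ok L.1 L.2
  simp only [Bool.and_eq_true, beq_iff_eq] at hl
  have hnd : (members L).Nodup := List.nodup_range.filter _
  rcases hm : members L with _ | ⟨i, _ | ⟨j, rest⟩⟩
  · simp [hm] at hl
  · simp [hm] at hl
  · have hi : i ∈ members L := by rw [hm]; simp
    have hj : j ∈ members L := by rw [hm]; simp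
    rw [members, List.mem_filter, List.mem_range] at hi hj
    have hij : (⟨i, hi.1⟩ : Fin 280) ≠ ⟨j, hj.1⟩ := fun e => by
      rw [hm, show i = j from congrArg Fin.val e] at hnd
      simp at hnd
    have hMi := h ⟨i, hi.1⟩ (by simp [hm])
    have hMj := h ⟨j, hj.1⟩ (by simp [hm])
    obtain ⟨N, -, -, hu⟩ := exists_line (i := σ.1 ⟨i, hi.1⟩) (j := σ.1 ⟨j, hj.1⟩)
      (by rw [σ.2]; exact (onLine_eq (l := ⟨i, hi.1⟩) hi.2 hj.2 hij).1)
    rw [hu M hMi hMj]
    exact hu _ ((onLine_lineImage σ L _).trans hi.2) ((onLine_lineImage σ L _).trans hj.2)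

/-- The action on lines. -/
noncomputable def lineHom : perpAut →* Perm (Fin 112) where
  toFun σ := Equiv.ofBijective (lineImage σ) (Finite.injective_iff_bijective.1 fun L M e =>
    line_ext fun i => by rw [← onLine_lineImage σ L, ← onLine_lineImage σ M, e])
  map_one' := Equiv.ext fun L => lineImage_eq fun _ => rfl
  map_mul' σ τ := Equiv.ext fun L => lineImage_eq fun i =>
    (onLine_lineImage σ _ (τ.1 i)).trans (onLine_lineImage τ L i)

theorem lineHom_apply (σ : perpAut) (L : Fin 112) : lineHom σ L = lineImage σ L := rfl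

theorem gAdjN_iff (L M : Fin 112) :
    gAdjN L M = true ↔ L ≠ M ∧ ∃ i : Fin 280, onLine L i = true ∧ onLine M i = true := by
  simp only [gAdjN, Bool.and_eq_true, decide_eq_true_eq, Bool.not_eq_true', beq_eq_false_iff_ne,
    Ne, Fin.val_inj, and_congr_right_iff]
  intro _
  constructor
  · intro h
    obtain ⟨k, hk⟩ := Nat.exists_testBit_of_ne_zero h
    rw [Nat.testBit_and, Bool.and_eq_true] at hk
    have hlt : lineMask L < 2 ^ 280 := Nat.mod_lt _ (by norm_num)
    have hk280 : k < 280 := by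
      by_contra hge
      rw [Nat.testBit_lt_two_pow (lt_of_lt_of_le hlt (Nat.pow_le_pow_right (by norm_num) (by omega)))]
        at hk
      simp at hk
    exact ⟨⟨k, hk280⟩, by rw [← testBit_lineMask, ← testBit_lineMask]; exact hk⟩
  · rintro ⟨i, h1, h2⟩ h0
    have : (lineMask L &&& lineMask M).testBit i = true := by
      rw [Nat.testBit_and, testBit_lineMask, testBit_lineMask, h1, h2]; rfl
    rw [h0] at this
    simp at this

theorem gAdjN_lineHom (σ : perpAut) (L M : Fin 112) :
    gAdjN (lineHom σ L) (lineHom σ M) = gAdjN L M := by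
  rw [Bool.eq_iff_iff, gAdjN_iff, gAdjN_iff, (lineHom σ).injective.ne_iff]
  refine and_congr_right fun _ => ⟨?_, ?_⟩
  · rintro ⟨i, h1, h2⟩
    obtain ⟨k, rfl⟩ := σ.1.surjective i
    rw [lineHom_apply, onLine_lineImage] at h1 h2
    exact ⟨k, h1, h2⟩
  · rintro ⟨i, h1, h2⟩
    exact ⟨σ.1 i, by rwa [lineHom_apply, onLine_lineImage], by rwa [lineHom_apply, onLine_lineImage]⟩

/-- Points reached in a tree lie in the orbit of its root. -/
theorem tree_reach {n : ℕ} {S : Subgroup (Perm (Fin n))} {tabs : List ℕ}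
    (htabs : ∀ k < tabs.length, ∃ σ ∈ S, ∀ x : Fin n, (σ x).val = tget (tabs.getD k 0) x.val)
    (r : Fin n) : ∀ (tr seen : List ℕ), treeOK tabs seen tr = true →
      (∀ p ∈ seen, ∃ σ ∈ S, (σ r).val = p) → ∀ p ∈ tr.map (· % 1024), ∃ σ ∈ S, (σ r).val = p
  | [], _, _, _, p, hp => by simp at hp
  | e :: rest, seen, h, hseen, p, hp => by
    simp only [treeOK, Bool.and_eq_true, List.contains_iff_mem, decide_eq_true_eq, beq_iff_eq] at h
    obtain ⟨⟨⟨h1, h2⟩, h3⟩, h4⟩ := h
    obtain ⟨σ, hσ, eσ⟩ := hseen _ h1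
    obtain ⟨τ, hτ, eτ⟩ := htabs _ h2
    have hnew : ∃ ρ ∈ S, (ρ r).val = e % 1024 :=
      ⟨τ * σ, mul_mem hτ hσ, by rw [Equiv.Perm.mul_apply, eτ, eσ, h3]⟩
    rcases List.mem_cons.1 hp with rfl | hp
    · exact hnew
    · refine tree_reach htabs r rest _ h4 (fun q hq => ?_) p hp
      rcases List.mem_cons.1 hq with rfl | hq
      · exact hnew
      · exact hseen q hq

theorem treePts_reach {n : ℕ} {S : Subgroup (Perm (Fin n))} {tabs : List ℕ}
    (htabs : ∀ k < tabs.length, ∃ σ ∈ S, ∀ x : Fin n, (σ x).val = tget (tabs.getD k 0) x.val)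
    (r : Fin n) {tr : List ℕ} (h : treeOK tabs [r.val] tr = true) :
    ∀ p ∈ treePts r.val tr, ∃ σ ∈ S, (σ r).val = p := by
  have h0 : ∃ σ ∈ S, (σ r).val = r.val := ⟨1, one_mem S, rfl⟩
  intro p hp
  rcases List.mem_cons.1 hp with rfl | hp
  · exact h0
  · exact tree_reach htabs r tr _ h (fun q hq => (List.mem_singleton.1 hq) ▸ h0) p hp

/-- A transitive action: the index of the stabiliser of a point. -/
theorem index_comap_stabilizer {G α : Type*} [Group G] [Finite α] (ψ : G →* Perm α) (x : α)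
    (ht : ∀ y, ∃ g, ψ g x = y) :
    ((MulAction.stabilizer (Perm α) x).comap ψ).index = Nat.card α := by
  letI := MulAction.compHom α ψ
  haveI : MulAction.IsPretransitive G α := ⟨fun u v => by
    obtain ⟨g, rfl⟩ := ht u
    obtain ⟨h, rfl⟩ := ht v
    exact ⟨h * g⁻¹, by
      show ψ (h * g⁻¹) (ψ g x) = ψ h x
      rw [← Equiv.Perm.mul_apply, ← map_mul, inv_mul_cancel_right]⟩⟩
  exact MulAction.index_stabilizer_of_transitive G x

/-! ### The unitary group -/

variable {F : Type*} [Field F] (ι : F)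

/-- The vector of a point. -/
def vecF (v : ℕ) : Fin 4 → F := fun k => val9 ι (dig v k)

variable {ι} [CharP F 3] (hι : ι ^ 2 = -1)

theorem dig_lt (v k : ℕ) : dig v k < 9 := Nat.mod_lt _ (by norm_num)

theorem dig_code {a b c d : ℕ} (ha : a < 9) (hb : b < 9) (hc : c < 9) (hd : d < 9) :
    dig (a + 9 * b + 81 * c + 729 * d) 0 = a ∧ dig (a + 9 * b + 81 * c + 729 * d) 1 = b ∧
      dig (a + 9 * b + 81 * c + 729 * d) 2 = c ∧ dig (a + 9 * b + 81 * c + 729 * d) 3 = d := by
  unfold dig
  norm_num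
  omega

include hι

theorem vecF_scaleC (a v : ℕ) : vecF ι (scaleC a v) = val9 ι a • vecF ι v := by
  obtain ⟨e0, e1, e2, e3⟩ := dig_code (mulF_lt a (dig v 0)) (mulF_lt a (dig v 1))
    (mulF_lt a (dig v 2)) (mulF_lt a (dig v 3))
  ext k
  fin_cases k <;> simp [vecF, scaleC, e0, e1, e2, e3, val9_mulF hι]

theorem vecF_mulVecC (A : List (List ℕ)) (v : ℕ) :
    mat4 ι A *ᵥ vecF ι v = vecF ι (mulVecC A v) := by
  obtain ⟨e0, e1, e2, e3⟩ := dig_code
    (addF_lt (addF (mulF (get4 A 0 0) (dig v 0)) (mulF (get4 A 0 1) (dig v 1)))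
      (addF (mulF (get4 A 0 2) (dig v 2)) (mulF (get4 A 0 3) (dig v 3))))
    (addF_lt (addF (mulF (get4 A 1 0) (dig v 0)) (mulF (get4 A 1 1) (dig v 1)))
      (addF (mulF (get4 A 1 2) (dig v 2)) (mulF (get4 A 1 3) (dig v 3))))
    (addF_lt (addF (mulF (get4 A 2 0) (dig v 0)) (mulF (get4 A 2 1) (dig v 1)))
      (addF (mulF (get4 A 2 2) (dig v 2)) (mulF (get4 A 2 3) (dig v 3))))
    (addF_lt (addF (mulF (get4 A 3 0) (dig v 0)) (mulF (get4 A 3 1) (dig v 1)))
      (addF (mulF (get4 A 3 2) (dig v 2)) (mulF (get4 A 3 3) (dig v 3))))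
  ext k
  fin_cases k <;>
    simp [vecF, mulVecC, e0, e1, e2, e3, mat4, Matrix.mulVec, dotProduct, Fin.sum_univ_four,
      val9_addF, val9_mulF hι] <;> ring

theorem val9_hermC [Fintype F] (v w : ℕ) :
    val9 ι (hermC v w) = Cfsg.hermForm 4 F 3 (vecF ι v) (vecF ι w) := by
  simp [hermC, Cfsg.hermForm, vecF, Fin.sum_univ_four, val9_addF, val9_mulF hι, val9_conjF hι]
  ring

theorem vecF_inj {v w : ℕ} (hv : v < 6561) (hw : w < 6561) (h : vecF ι v = vecF ι w) : v = w := by
  have e : ∀ k : Fin 4, dig v k = dig w k := fun k =>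
    val9_injOn hι (dig_lt _ _) (dig_lt _ _) (congrFun h k)
  have e0 := e 0; have e1 := e 1; have e2 := e 2; have e3 := e 3
  simp only [dig, Fin.val_zero, Fin.val_one, Fin.val_two] at e0 e1 e2 e3
  have : ((3 : Fin 4) : ℕ) = 3 := rfl
  rw [this] at e3
  norm_num at e0 e1 e2 e3
  omega

omit hι in
theorem hermT_eq (v w : ℕ) : hermT v w = hermC v w := by
  have key : ∀ a b, a < 9 → b < 9 → (mulTab >>> (4 * (9 * a + b))) % 16 = mulF a b ∧
      (addTab >>> (4 * (9 * a + b))) % 16 = addF a b := by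
    intro a b ha hb
    have h := forBelow_iff.1 tabs_eq (9 * a + b) (by omega)
    simp only [Bool.and_eq_true, beq_iff_eq] at h
    rwa [show (9 * a + b) / 9 = a by omega, show (9 * a + b) % 9 = b by omega] at h
  have hm : ∀ k, (mulTab >>> (4 * (9 * dig v k + conjF (dig w k)))) % 16 =
      mulF (dig v k) (conjF (dig w k)) := fun k => (key _ _ (dig_lt _ _) (conjF_lt _)).1
  simp only [hermT, hermC, hm]
  rw [(key _ _ (mulF_lt _ _) (mulF_lt _ _)).2, (key _ _ (mulF_lt _ _) (mulF_lt _ _)).2,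
    (key _ _ (addF_lt _ _) (addF_lt _ _)).2]

omit hι in
theorem pt_lt (i : Fin 280) : pt i < 6561 := by
  have h := forBelow_iff.1 pts_unique i.1 i.2
  simp only [Bool.and_eq_true, decide_eq_true_eq] at h
  exact h.1.2

omit hι in
theorem pt_facts (i : Fin 280) : hermC (pt i) (pt i) = 0 ∧ pt i ≠ 0 ∧ ptIdx (pt i) = i.val ∧
    ∀ a, 2 ≤ a → a < 9 → 280 ≤ ptIdx (scaleC a (pt i)) := by
  have h := forBelow_iff.1 pts_unique i.1 i.2
  simp only [Bool.and_eq_true, beq_iff_eq, bne_iff_ne, List.all_eq_true, decide_eq_true_eq, hermT_eq] at h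
  refine ⟨h.1.1.1.1, h.1.1.1.2, h.1.1.2, fun a ha2 ha9 => h.2 a ?_⟩
  interval_cases a <;> simp

theorem vec_pt_ne (i : Fin 280) : vecF ι (pt i) ≠ 0 := fun h =>
  (pt_facts i).2.1 (vecF_inj hι (pt_lt i) (by norm_num) (h.trans (by ext k; simp [vecF, dig, val9_zero])))

variable [Fintype F] (hF : Fintype.card F = 9)
include hF

theorem pt_unique {i j : Fin 280} {c : F} (h : vecF ι (pt j) = c • vecF ι (pt i)) : i = j := by
  obtain ⟨a, ha, rfl⟩ := val9_surjective hι hF c
  rw [← vecF_scaleC hι] at h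
  have hlt : scaleC a (pt i) < 6561 := by
    have := mulF_lt a (dig (pt i) 0); have := mulF_lt a (dig (pt i) 1)
    have := mulF_lt a (dig (pt i) 2); have := mulF_lt a (dig (pt i) 3)
    unfold scaleC; omega
  have e := vecF_inj hι (pt_lt j) hlt h
  rcases Nat.lt_or_ge a 2 with ha2 | ha2
  · interval_cases a
    · exact absurd h (by
        rw [vecF_scaleC hι, val9_zero, zero_smul]; exact vec_pt_ne hι j)
    · rw [vecF_scaleC hι, val9_one, one_smul] at h
      have e' := vecF_inj hι (pt_lt j) (pt_lt i) h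
      apply Fin.ext
      rw [← (pt_facts i).2.2.1, ← e', (pt_facts j).2.2.1]
  · have := (pt_facts i).2.2.2 a ha2 ha
    rw [← e, (pt_facts j).2.2.1] at this
    omega

theorem exists_pt {u : Fin 4 → F} (hu : u ≠ 0) (h : Cfsg.hermForm 4 F 3 u u = 0) :
    ∃ i : Fin 280, ∃ c : F, u = c • vecF ι (pt i) := by
  obtain ⟨a, ha, ea⟩ := val9_surjective hι hF (u 0)
  obtain ⟨b, hb, eb⟩ := val9_surjective hι hF (u 1)
  obtain ⟨c, hc, ec⟩ := val9_surjective hι hF (u 2)
  obtain ⟨d, hd, ed⟩ := val9_surjective hι hF (u 3)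
  set v := a + 9 * b + 81 * c + 729 * d with hv
  obtain ⟨e0, e1, e2, e3⟩ := dig_code ha hb hc hd
  rw [← hv] at e0 e1 e2 e3
  have hvu : vecF ι v = u := by
    ext k
    fin_cases k <;> simp [vecF, e0, e1, e2, e3, ea, eb, ec, ed]
  have hlt : v < 6561 := by omega
  have hck := forBelow_iff.1 pts_exist v hlt
  simp only [Bool.or_eq_true, beq_iff_eq, bne_iff_ne, Bool.and_eq_true, decide_eq_true_eq, hermT_eq] at hck
  rcases hck with (h0 | h0) | ⟨hi, he⟩
  · exact absurd (hvu.symm.trans (by rw [h0]; ext k; simp [vecF, dig, val9_zero])) hu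
  · exact absurd (val9_injOn hι (addF_lt _ _) (by norm_num)
      (show val9 ι (hermC v v) = val9 ι 0 by rw [val9_hermC hι, hvu, h, val9_zero])) h0
  · exact ⟨⟨_, hi⟩, val9 ι (leadC v), by rw [← vecF_scaleC hι, he, hvu]⟩

omit hι hF in
theorem hermForm_smul (c d : F) (u v : Fin 4 → F) :
    Cfsg.hermForm 4 F 3 (c • u) (d • v) = c * d ^ 3 * Cfsg.hermForm 4 F 3 u v := by
  simp only [Cfsg.hermForm, Pi.smul_apply, smul_eq_mul, Finset.mul_sum]
  exact Finset.sum_congr rfl fun i _ => by ring

omit hι hF in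
theorem su_preserves (g : Cfsg.SU 4 F 3) (u v : Fin 4 → F) :
    Cfsg.hermForm 4 F 3 (((g : Matrix.SpecialLinearGroup (Fin 4) F) : Matrix (Fin 4) (Fin 4) F) *ᵥ u)
      (((g : Matrix.SpecialLinearGroup (Fin 4) F) : Matrix (Fin 4) (Fin 4) F) *ᵥ v) =
      Cfsg.hermForm 4 F 3 u v := g.2 u v

omit hι hF in
/-- The matrix. -/
def suMat : Cfsg.SU 4 F 3 →* Matrix (Fin 4) (Fin 4) F :=
  (Cfsg.slToMat 4 F).comp (Cfsg.SU 4 F 3).subtype

theorem exists_ptImage (g : Cfsg.SU 4 F 3) (i : Fin 280) :
    ∃ j : Fin 280, ∃ c : F, c ≠ 0 ∧ suMat g *ᵥ vecF ι (pt i) = c • vecF ι (pt j) := by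
  have hne : suMat g *ᵥ vecF ι (pt i) ≠ 0 := fun e => vec_pt_ne hι i (by
    have := congrArg (suMat g⁻¹ *ᵥ ·) e
    simpa only [Matrix.mulVec_mulVec, ← map_mul, inv_mul_cancel, map_one, Matrix.one_mulVec,
      Matrix.mulVec_zero] using this)
  obtain ⟨j, c, e⟩ := exists_pt hι hF hne (by
    rw [show suMat g = ((g : Matrix.SpecialLinearGroup (Fin 4) F) : Matrix (Fin 4) (Fin 4) F) from rfl,
      su_preserves, ← val9_hermC hι, (pt_facts i).1, val9_zero])
  exact ⟨j, c, fun h0 => hne (by rw [e, h0, zero_smul]), e⟩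

/-- The image of a point. -/
noncomputable def ptImage (g : Cfsg.SU 4 F 3) (i : Fin 280) : Fin 280 :=
  (exists_ptImage hι hF g i).choose

theorem ptImage_eq {g : Cfsg.SU 4 F 3} {i j : Fin 280} {c : F}
    (h : suMat g *ᵥ vecF ι (pt i) = c • vecF ι (pt j)) : ptImage hι hF g i = j := by
  obtain ⟨d, hd, e⟩ := (exists_ptImage hι hF g i).choose_spec
  refine (pt_unique hι hF (c := d⁻¹ * c) ?_).symm
  rw [mul_smul, ← h, e, smul_smul, inv_mul_cancel₀ hd, one_smul]
  rfl

theorem ptImage_mul (g h : Cfsg.SU 4 F 3) (i : Fin 280) :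
    ptImage hι hF (g * h) i = ptImage hι hF g (ptImage hι hF h i) := by
  obtain ⟨c, -, e⟩ := (exists_ptImage hι hF h i).choose_spec
  obtain ⟨d, -, e'⟩ := (exists_ptImage hι hF g (ptImage hι hF h i)).choose_spec
  refine ptImage_eq hι hF (c := c * d) ?_
  rw [map_mul, ← Matrix.mulVec_mulVec, e, Matrix.mulVec_smul]
  show c • (suMat g *ᵥ vecF ι (pt (ptImage hι hF h i))) = _
  rw [e', smul_smul]
  rfl

theorem ptImage_one (i : Fin 280) : ptImage hι hF 1 i = i :=
  ptImage_eq hι hF (c := 1) (by rw [map_one, Matrix.one_mulVec, one_smul])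

/-- The action on points. -/
noncomputable def suPerm : Cfsg.SU 4 F 3 →* perpAut := MonoidHom.mk' (fun g =>
  ⟨{ toFun := ptImage hι hF g
     invFun := ptImage hι hF g⁻¹
     left_inv := fun i => by rw [← ptImage_mul, inv_mul_cancel, ptImage_one]
     right_inv := fun i => by rw [← ptImage_mul, mul_inv_cancel, ptImage_one] }, fun i j => by
    show perpB (ptImage hι hF g i).val (ptImage hι hF g j).val = _
    obtain ⟨c, hc, e⟩ := (exists_ptImage hι hF g i).choose_spec
    obtain ⟨d, hd, e'⟩ := (exists_ptImage hι hF g j).choose_spec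
    have hp := fun a b : Fin 280 => beq_iff_eq.1 (forBelow_iff.1 (forBelow_iff.1 perp_ok a.1 a.2) b.1 b.2)
    rw [hp, hp, hermT_eq, hermT_eq]
    have hinj : (ptImage hι hF g i).val ≠ (ptImage hι hF g j).val ↔ i.val ≠ j.val := by
      rw [Ne, Ne, Fin.val_inj, Fin.val_inj]
      refine not_congr ⟨fun h => ?_, fun h => h ▸ rfl⟩
      have := congrArg (ptImage hι hF g⁻¹) h
      rwa [← ptImage_mul, ← ptImage_mul, inv_mul_cancel, ptImage_one, ptImage_one] at this
    have hherm : hermC (pt (ptImage hι hF g i)) (pt (ptImage hι hF g j)) = 0 ↔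
        hermC (pt i) (pt j) = 0 := by
      have key : ∀ v w, hermC v w = 0 ↔ Cfsg.hermForm 4 F 3 (vecF ι v) (vecF ι w) = 0 := fun v w => by
        rw [← val9_hermC hι]
        exact ⟨fun h => by rw [h, val9_zero], fun h =>
          val9_injOn hι (addF_lt _ _) (by norm_num) (h.trans (val9_zero ι).symm)⟩
      rw [key, key, ← su_preserves g (vecF ι (pt i))]
      change _ ↔ Cfsg.hermForm 4 F 3 (suMat g *ᵥ _) (suMat g *ᵥ _) = 0
      rw [e, e', hermForm_smul]
      simp [hc, hd, ptImage]
    rw [Bool.eq_iff_iff]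
    simp only [Bool.and_eq_true, decide_eq_true_eq, beq_iff_eq, hinj, hherm]⟩)
  fun g h => Subtype.ext (Equiv.ext fun i => ptImage_mul hι hF g h i)

theorem center_le_ker : Subgroup.center (Cfsg.SU 4 F 3) ≤ (suPerm hι hF).ker := by
  intro z hz
  obtain ⟨μ, hμ⟩ := CfsgLib.Forms4.exists_scalar_of_mem_center (n := 4) (q := 3)
    (by rw [hF]; norm_num) (by norm_num) hz
  refine Subtype.ext (Equiv.ext fun i => ptImage_eq hι hF (c := μ) ?_)
  show ((z : Matrix.SpecialLinearGroup (Fin 4) F) : Matrix (Fin 4) (Fin 4) F) *ᵥ _ = _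
  rw [hμ]
  exact (Matrix.smul_mulVec _ _ _).trans (by rw [Matrix.one_mulVec]; rfl)

/-- The action of the simple group on points. -/
noncomputable def psuPerm : Cfsg.PSU 4 F 3 →* perpAut :=
  QuotientGroup.lift _ (suPerm hι hF) (center_le_ker hι hF)

theorem exists_gen (k : Fin 7) : ∃ g : Cfsg.SU 4 F 3,
    suMat g = mat4 ι (matC (genCodes.getD k 0)) ∧
      (∀ i : Fin 280, ((suPerm hι hF g).1 i).val = tget (ptTabs.getD k 0) i) ∧
        ∀ l : Fin 112, (lineHom (suPerm hι hF g) l).val = tget (lineTabs.getD k 0) l := by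
  have h := forBelow_iff.1 gens_ok k.1 k.2
  simp only [Bool.and_eq_true, beq_iff_eq, forBelow_iff, decide_eq_true_eq, bne_iff_ne] at h
  obtain ⟨⟨⟨hcols, hpow⟩, hpts⟩, hlines⟩ := h
  obtain ⟨g, hg⟩ := exists_elt (n := if k.1 < 6 then 9 else 7) hι hF (by split <;> norm_num) hcols hpow
  have hp : ∀ i : Fin 280, ((suPerm hι hF g).1 i).val = tget (ptTabs.getD k 0) i := by
    intro i
    obtain ⟨⟨ht, -⟩, hs⟩ := hpts i.1 i.2
    refine congrArg Fin.val (ptImage_eq hι hF (j := ⟨_, ht⟩)
      (c := val9 ι (leadC (mulVecC (matC (genCodes.getD k 0)) (pt i)))) ?_)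
    rw [← vecF_scaleC hι, hs, ← vecF_mulVecC hι]
    exact congrArg (· *ᵥ _) hg
  refine ⟨g, hg, hp, fun l => ?_⟩
  obtain ⟨hl, hli⟩ := hlines l.1 l.2
  simp only [List.all_eq_true] at hli
  rw [lineHom_apply]
  refine congrArg Fin.val (lineImage_eq_of_two (M := ⟨_, hl⟩) fun i hi => ?_)
  rw [hp]
  exact hli i.1 hi

end CfsgLib.McLRec
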